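/- The local setup around a Sylow subgroup `P`, `p ≥ 5`. -/
import Cfsg.Agent.Lib.FpfPP.Chief
import Cfsg.Agent.Lib.FpfPP.OF
import Cfsg.Agent.Lib.FpfPP.KL
import Cfsg.Agent.Lib.FpfPP.Pc
import Cfsg.Agent.Lib.Coprime.Action
import Cfsg.Agent.Lib.Coprime.Hall
import Cfsg.Agent.Lib.Coprime.FrobCountGroup
import Cfsg.Agent.Lib.PGroups.Basic

set_option autoImplicit false

namespace Cfsg.Agent.Lib.FpfPP

open Subgroup Cfsg.Agent.Lib.Coprime.Action

universe u

variable {Γ : Type u} [Group Γ] [Finite Γ] {G A : Subgroup Γ} {q : ℕ}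

/-- The data around the invariant Sylow `p`-subgroup `P` of `G`. `N = N_G(K_∞(P))` in the application. -/
structure PData (G A : Subgroup Γ) (q p : ℕ) (P N E₀ : Subgroup Γ) : Prop where
  mc : MC G A q
  hp : p.Prime
  syl : IsSylowIn p P G
  invP : Inv A P
  neP : P ≠ ⊥
  leNG : N ≤ G
  invN : Inv A N
  neN : N ≠ G
  leP : P ≤ N
  nrmP : N ≤ normalizer (P : Set Γ)
  nrmN : G ⊓ normalizer (P : Set Γ) ≤ N
  /-- the weak closure statement -/
  weak : ∀ z ∈ P, (∀ n ∈ N, z * n = n * z) → ∀ g ∈ G, g * z * g⁻¹ ∈ P → g * z * g⁻¹ = z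
  leE : E₀ ≤ N
  invE : Inv A E₀
  copE : ¬ p ∣ Nat.card E₀
  supE : P ⊔ E₀ = N
  commE : ⁅P, E₀⁆ = P

/-- Basic facts on `MC`. -/
theorem MC.nil (h : MC G A q) {L : Subgroup Γ} (hLG : L ≤ G) (hne : L ≠ G) (hL : Inv A L) :
    Group.IsNilpotent (⁅L, L⁆ : Subgroup Γ) :=
  derived_nilp (h.toBase.mono hLG hL) (h.solv L hLG hne hL)

theorem comm_le_self_aux (L : Subgroup Γ) : ⁅L, L⁆ ≤ L :=
  (Subgroup.commutator_le).2 fun _ h₁ _ h₂ =>
    L.mul_mem (L.mul_mem (L.mul_mem h₁ h₂) (L.inv_mem h₁)) (L.inv_mem h₂)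

theorem solvable_of_comm_aux {L : Subgroup Γ} (hc : ∀ x ∈ L, ∀ y ∈ L, x * y = y * x) :
    Group.IsSolvable L :=
  isSolvable_of_comm fun a b => Subtype.ext (hc _ a.2 _ b.2)

/-- `G` is perfect. -/
theorem MC.perfect (h : MC G A q) : ⁅G, G⁆ = G := by
  rcases h.simple ⁅G, G⁆ (comm_le_self_aux G)
      (le_normalizer_commutator_of_le Subgroup.le_normalizer Subgroup.le_normalizer)
      (Inv.comm h.inv h.inv) with h0 | h1
  · exfalso
    apply h.nons
    apply solvable_of_comm_aux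
    intro x hx y hy
    have := Subgroup.commutator_mem_commutator hx hy
    rw [h0, Subgroup.mem_bot, commutatorElement_eq_one_iff_mul_comm] at this
    exact this
  · exact h1

theorem centralizer_le_normalizer_aux (R : Subgroup Γ) :
    centralizer (R : Set Γ) ≤ normalizer (R : Set Γ) := by
  intro g hg
  rw [mem_normalizer_iff]
  intro x
  constructor
  · intro hx
    have h1 : x * g = g * x := mem_centralizer_iff.1 hg x hx
    have e : g * x * g⁻¹ = x := by rw [← h1]; group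
    rwa [e]
  · intro hx
    have h1 : (g * x * g⁻¹) * g = g * (g * x * g⁻¹) := mem_centralizer_iff.1 hg _ hx
    have h2 : g * x = x * g := by
      have h3 : g * x = g * x * g⁻¹ * g := by group
      have h4 : g⁻¹ * (g * x * g⁻¹ * g) = g⁻¹ * (g * (g * x * g⁻¹)) := by rw [h1]
      have h5 : x * g⁻¹ * g = g * x * g⁻¹ := by
        calc x * g⁻¹ * g = g⁻¹ * (g * x * g⁻¹ * g) := by group
          _ = g⁻¹ * (g * (g * x * g⁻¹)) := h4
          _ = g * x * g⁻¹ := by group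
      have h6 : x = g * x * g⁻¹ := by
        calc x = x * g⁻¹ * g := by group
          _ = g * x * g⁻¹ := h5
      calc g * x = (g * x * g⁻¹) * g := by group
        _ = x * g := by rw [← h6]
    have e : g * x * g⁻¹ = x := by rw [h2]; group
    rwa [e] at hx

/-- `Z(G) = 1`: the centralizer of a nontrivial invariant subgroup is proper. -/
theorem MC.ne_centralizer (h : MC G A q) {R : Subgroup Γ} (hRG : R ≤ G) (hR : Inv A R) (hR1 : R ≠ ⊥) :
    G ⊓ centralizer (R : Set Γ) ≠ G := by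
  intro heq
  have hGR : G ≤ centralizer (R : Set Γ) := by
    rw [← heq]; exact inf_le_right
  rcases h.simple R hRG (hGR.trans (centralizer_le_normalizer_aux R)) hR with h0 | h1
  · exact hR1 h0
  · subst h1
    apply h.nons
    apply solvable_of_comm_aux
    intro x hx y hy
    exact mem_centralizer_iff.1 (hGR hy) x hx

/-- `G` is not a `p`-group; more generally a nilpotent invariant normal subgroup is trivial. -/
theorem MC.eq_bot_of_normal (h : MC G A q) {N : Subgroup Γ} (hNG : N ≤ G) (hn : G ≤ normalizer (N : Set Γ))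
    (hN : Inv A N) (hne : N ≠ G) : N = ⊥ := (h.simple N hNG hn hN).resolve_right hne

theorem mem_zpowers_symm_aux (h : BaseNT G A q) {b c : Γ} (hb : b ∈ A) (hb1 : b ≠ 1) (hc : c ∈ A) (hc1 : c ≠ 1)
    (hbc : b ∈ zpowers c) : c ∈ zpowers b := by
  have hle : zpowers b ≤ zpowers c := (zpowers_le).2 hbc
  have : zpowers b = zpowers c := by
    apply Subgroup.eq_of_le_of_card_ge hle
    rw [Nat.card_zpowers, Nat.card_zpowers, h.orderOf_eq hb hb1, h.orderOf_eq hc hc1]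
  rw [this]
  exact mem_zpowers c

namespace PData

variable {p : ℕ} {P N E₀ : Subgroup Γ} (d : PData G A q p P N E₀)
include d

theorem neG : P ≠ G := by
  intro heq
  haveI := Fact.mk d.hp
  apply d.mc.nons
  have h1 : IsPGroup p G := heq ▸ d.syl.2.1
  haveI : Group.IsNilpotent G := h1.isNilpotent
  infer_instance

theorem hpq : p ≠ q := by
  intro heq
  haveI := Fact.mk d.hp
  apply d.mc.cop
  rw [← heq]
  rcases d.syl.2.1.card_eq_or_dvd with h | h
  · exact absurd (Subgroup.eq_bot_of_card_eq P h) d.neP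
  · exact h.trans (Subgroup.card_dvd_of_le d.syl.1)

/-- Invariant `p`-subgroups lie in `P`. -/
theorem le_of_inv {S : Subgroup Γ} (hSG : S ≤ G) (hS : IsPGroup p S) (hSi : Inv A S) : S ≤ P := by
  haveI := Fact.mk d.hp
  have hN := d.mc.toBase.toBaseNT
  obtain ⟨Q, hQ, hQA, hSQ⟩ := exists_invariant_sylowIn_ge hN.inv hN.copA (Or.inl hN.isSolvable_A) hSG hS hSi
  obtain ⟨c, hc, hcQ⟩ := invariant_sylowIn_conj hN.inv hN.copA (Or.inl hN.isSolvable_A) hQ d.syl hQA d.invP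
  rw [d.mc.toBase.triv, Subgroup.mem_bot] at hc
  subst hc
  rw [map_one, one_smul] at hcQ
  rwa [← hcQ]

/-- **F1**: if `C_R(b) = 1` for `R ≤ P` invariant normalized by `E₀`, the other pieces of `E₀` centralize `R`. -/
theorem f1 {R : Subgroup Γ} (hRP : R ≤ P) (hRi : Inv A R) (hRE : E₀ ≤ normalizer (R : Set Γ)) {b c : Γ} (hb : b ∈ A)
    (hb1 : b ≠ 1) (hfix : Fx R b = ⊥) (hc : c ∈ Off A b) : Fx E₀ c ≤ centralizer (R : Set Γ) := by
  classical
  haveI := Fact.mk d.hp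
  have hB := d.mc.toBase
  have hN := hB.toBaseNT
  have hEG : E₀ ≤ G := d.leE.trans d.leNG
  set U := Fx E₀ c with hU
  set E := zpowers b with hE
  have hEA : E ≤ A := (zpowers_le).2 hb
  have hE1 : E ≠ ⊥ := by
    rw [hE, Ne, zpowers_eq_bot]; exact hb1
  have hUn : ∀ e ∈ E, ∀ u ∈ U, e * u * e⁻¹ ∈ U := fun e he u hu =>
    conj_mem_of_inv (hN.inv_fx d.invE hc.1) (hEA he) hu
  have hfpf : ∀ e ∈ E, e ≠ 1 → ∀ u ∈ U, e * u = u * e → u = 1 := by
    intro e he he1 u hu heu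
    have hub : u ∈ Fx G e := ⟨hEG hu.1, mem_centralizer_iff.2 fun g hg => by
      rw [Set.mem_singleton_iff.1 hg]; exact heu⟩
    rw [hN.fx_congr G hb hb1 he he1] at hub
    have hAu : A ≤ centralizer ({u} : Set Γ) := by
      rw [← hN.sup_zpowers hb hb1 hc.1 hc.2]
      refine sup_le ((zpowers_le).2 ?_) ((zpowers_le).2 ?_)
      · rw [mem_centralizer_iff]; intro g hg
        rw [Set.mem_singleton_iff.1 hg]
        exact (mem_centralizer_iff.1 hub.2 b rfl).symm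
      · rw [mem_centralizer_iff]; intro g hg
        rw [Set.mem_singleton_iff.1 hg]
        exact (mem_centralizer_iff.1 hu.2 c rfl).symm
    have : u ∈ G ⊓ centralizer (A : Set Γ) := ⟨hEG hu.1, mem_centralizer_iff.2 fun g hg =>
      (mem_centralizer_iff.1 (hAu hg) u rfl).symm⟩
    rwa [hB.triv, Subgroup.mem_bot] at this
  have hURE : U ⊔ E ≤ normalizer (R : Set Γ) := sup_le (inf_le_left.trans hRE) (hEA.trans hRi)
  have hHn : ∀ x ∈ U ⊔ E, ∀ h ∈ R, x * h * x⁻¹ ∈ R := fun x hx h hh =>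
    conj_mem_of_inv hURE hx hh
  have hRp : IsPGroup p R := d.syl.2.1.to_le hRP
  have hsolv : Group.IsSolvable R := by
    haveI : Group.IsNilpotent R := hRp.isNilpotent
    infer_instance
  have hEU : E ≤ normalizer (U : Set Γ) := inv_of_conj hUn
  have hUE : U ⊓ E = ⊥ := by
    rw [eq_bot_iff]
    rintro x ⟨hxU, hxE⟩
    rw [Subgroup.mem_bot]
    by_contra hx1
    exact hx1 (hfpf x hxE hx1 x hxU rfl)
  have hcard := card_sup_of_le_normalizer hEU hUE
  have hnp : ¬ p ∣ Nat.card ↥(U ⊔ E) := by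
    rw [← hcard, d.hp.dvd_mul, not_or]
    refine ⟨fun hh => d.copE (hh.trans (Subgroup.card_dvd_of_le inf_le_left)), ?_⟩
    rw [hE, Nat.card_zpowers, hN.orderOf_eq hb hb1]
    intro hh
    exact d.hpq ((Nat.prime_dvd_prime_iff_eq d.hp hN.hq).1 hh)
  have hcop : Nat.Coprime (Nat.card R) (Nat.card ↥(U ⊔ E)) := by
    obtain ⟨k, hk⟩ := IsPGroup.iff_card.1 hRp
    rw [hk]
    exact Nat.Coprime.pow_left _ ((Nat.Prime.coprime_iff_not_dvd d.hp).2 hnp)
  have key := Cfsg.Agent.Lib.Coprime.FrobCountGroup.main U E R hE1 hUn hfpf hHn hsolv hcop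
  have hRE0 : R ⊓ centralizer (E : Set Γ) = ⊥ := by
    rw [eq_bot_iff, ← hfix]
    rintro x ⟨hxR, hxc⟩
    refine ⟨hxR, mem_centralizer_iff.2 fun g hg => ?_⟩
    rw [Set.mem_singleton_iff.1 hg]
    exact mem_centralizer_iff.1 hxc b (mem_zpowers b)
  rw [hRE0, Subgroup.card_bot, one_pow, one_mul] at key
  have hpos : 0 < Nat.card ↥(R ⊓ centralizer ((U ⊔ E : Subgroup Γ) : Set Γ)) := Nat.card_pos
  have hle1 : Nat.card R ≤ Nat.card ↥(R ⊓ centralizer (U : Set Γ)) := by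
    rw [← key]
    exact Nat.le_mul_of_pos_left _ (pow_pos hpos _)
  have heqR : R ⊓ centralizer (U : Set Γ) = R :=
    Subgroup.eq_of_le_of_card_ge inf_le_left hle1
  have hRU : R ≤ centralizer (U : Set Γ) := by
    rw [← heqR]; exact inf_le_right
  exact Subgroup.le_centralizer_iff.1 hRU

/-- At most one line has `P_b = 1`. -/
theorem atmost {b c : Γ} (hb : b ∈ A) (hb1 : b ≠ 1) (hbf : Fx P b = ⊥) (hc : c ∈ Off A b) : Fx P c ≠ ⊥ := by
  intro hcf
  have hN := d.mc.toBase.toBaseNT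
  have hEP : E₀ ≤ normalizer (P : Set Γ) := d.leE.trans d.nrmP
  have hEG : E₀ ≤ G := d.leE.trans d.leNG
  have hc1 : c ≠ 1 := by
    rintro rfl; exact hc.2 (one_mem _)
  have hbc : b ∉ zpowers c := fun hh => hc.2 (mem_zpowers_symm_aux hN hb hb1 hc.1 hc1 hh)
  have hEC : E₀ ≤ centralizer (P : Set Γ) := by
    rw [← hN.gen hEG d.invE]
    refine iSup₂_le ?_
    rintro a ⟨haA, ha1⟩
    by_cases hab : a ∈ zpowers b
    · have hac : a ∉ zpowers c := by
        intro hac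
        apply hbc
        have := mem_zpowers_symm_aux hN haA ha1 hb hb1 hab
        exact (zpowers_le).2 hac this
      exact d.f1 le_rfl d.invP hEP hc.1 hc1 hcf ⟨haA, hac⟩
    · exact d.f1 le_rfl d.invP hEP hb hb1 hbf ⟨haA, hab⟩
  apply d.neP
  rw [← d.commE, Subgroup.commutator_eq_bot_iff_le_centralizer]
  exact Subgroup.le_centralizer_iff.1 hEC

theorem eq_of_sup_comm_aux {M : Subgroup Γ} (hMP : M ≤ P) (hsup : P ≤ M ⊔ ⁅P, P⁆) : P ≤ M := by
  have hPp := d.syl.2.1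
  haveI := Fact.mk d.hp
  let H : Subgroup P := M.subgroupOf P
  have hH : H ⊔ commutator P = ⊤ := by
    rw [eq_top_iff]
    rintro ⟨x, hx⟩ -
    have hx' := hsup hx
    have hm : (H ⊔ commutator P).map P.subtype = M ⊔ ⁅P, P⁆ := by
      rw [Subgroup.map_sup, Subgroup.map_subgroupOf_eq_of_le hMP, Subgroup.map_subtype_commutator]
    rw [← hm] at hx'
    obtain ⟨y, hy, hyx⟩ := hx'
    have : y = ⟨x, hx⟩ := Subtype.ext hyx
    rwa [← this]
  have htop : H = ⊤ := frattini_nongenerating (by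
    rw [eq_top_iff, ← hH]
    exact sup_le_sup_left (Cfsg.Agent.Lib.PGroups.Basic.commutator_le_frattini hPp) _)
  intro x hx
  have : (⟨x, hx⟩ : P) ∈ H := by rw [htop]; trivial
  exact this

/-- **GEN2.** `D ≠ 1` invariant `p'`-subgroup of `G` normalized by `P`, with `D = [D, P]`: some piece `E_a` of `E₀`
has `[P, E_a] ≰ X := C_P(D)` and no nontrivial element `u ∈ P` has all `E_a`-conjugates in `X`. -/
theorem gen2 {D : Subgroup Γ} (hDG : D ≤ G) (hDi : Inv A D) (hDp : ¬ p ∣ Nat.card D) (hPD : P ≤ normalizer (D : Set Γ))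
    (hD : ⁅D, P⁆ = D) (hD1 : D ≠ ⊥) :
    ∃ a ∈ A, a ≠ 1 ∧ ¬ (⁅P, Fx E₀ a⁆ ≤ centralizer (D : Set Γ)) ∧
      ∀ u ∈ P, (∀ e ∈ Fx E₀ a, e * u * e⁻¹ ∈ centralizer (D : Set Γ)) → u = 1 := by
  classical
  haveI := Fact.mk d.hp
  have hB := d.mc.toBase
  have hN := hB.toBaseNT
  have hEP : E₀ ≤ normalizer (P : Set Γ) := d.leE.trans d.nrmP
  have hEG : E₀ ≤ G := d.leE.trans d.leNG
  have hPG : P ≤ G := d.syl.1
  have hPnc : ¬ P ≤ centralizer (D : Set Γ) := by
    intro hle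
    apply hD1
    rw [← hD, Subgroup.commutator_eq_bot_iff_le_centralizer]
    exact Subgroup.le_centralizer_iff.1 hle
  have hcomP : ∀ {F : Subgroup Γ}, F ≤ E₀ → ⁅P, F⁆ ≤ P := by
    intro F hF
    rw [Subgroup.commutator_le]
    intro u hu f hf
    have := conj_mem_of_inv hEP (hF hf) (P.inv_mem hu)
    have e : u * f * u⁻¹ * f⁻¹ = u * (f * u⁻¹ * f⁻¹) := by group
    rw [commutatorElement_def, e]
    exact P.mul_mem hu this
  obtain ⟨a, haA, ha1, hna⟩ : ∃ a ∈ A, a ≠ 1 ∧ ¬ ⁅P, Fx E₀ a⁆ ≤ centralizer (D : Set Γ) := by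
    by_contra hcon
    push Not at hcon
    set M : Subgroup Γ := ⨆ a ∈ Sharp A, ⁅P, Fx E₀ a⁆ with hM
    set M₁ : Subgroup Γ := M ⊔ ⁅P, P⁆ with hM₁
    have hMP : M ≤ P := iSup₂_le fun a _ => hcomP inf_le_left
    have hM₁P : M₁ ≤ P := sup_le hMP (comm_le_self_aux P)
    have hFc : ∀ a ∈ Sharp A, ∀ e ∈ Fx E₀ a, ∀ u ∈ P, u * e * u⁻¹ * e⁻¹ ∈ M₁ := by
      intro a ha e he u hu
      have h1 : ⁅P, Fx E₀ a⁆ ≤ M := le_iSup₂_of_le a ha le_rfl
      exact le_sup_of_le_left h1 (Subgroup.commutator_mem_commutator hu he)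
    have hFn : ∀ a ∈ Sharp A, ∀ e ∈ Fx E₀ a, ∀ u ∈ M₁, e * u * e⁻¹ ∈ M₁ := by
      intro a ha e he u hu
      have h1 := M₁.inv_mem (hFc a ha e he u (hM₁P hu))
      have e1 : e * u * e⁻¹ = (u * e * u⁻¹ * e⁻¹)⁻¹ * u := by group
      rw [e1]
      exact M₁.mul_mem h1 hu
    have hEM : E₀ ≤ normalizer (M₁ : Set Γ) := by
      rw [← hN.gen hEG d.invE]
      refine iSup₂_le fun a ha => ?_
      exact inv_of_conj (hFn a ha)
    let T : Subgroup Γ :=
      { carrier := {e | e ∈ E₀ ∧ ∀ u ∈ P, u * e * u⁻¹ * e⁻¹ ∈ M₁}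
        mul_mem' := by
          rintro e f ⟨he, he'⟩ ⟨hf, hf'⟩
          refine ⟨E₀.mul_mem he hf, fun u hu => ?_⟩
          have e1 : u * (e * f) * u⁻¹ * (e * f)⁻¹ =
              (u * e * u⁻¹ * e⁻¹) * (e * (u * f * u⁻¹ * f⁻¹) * e⁻¹) := by group
          rw [e1]
          exact M₁.mul_mem (he' u hu) (conj_mem_of_inv hEM he (hf' u hu))
        one_mem' := ⟨E₀.one_mem, fun u _ => by simp [M₁.one_mem]⟩
        inv_mem' := by
          rintro e ⟨he, he'⟩
          refine ⟨E₀.inv_mem he, fun u hu => ?_⟩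
          have e1 : u * e⁻¹ * u⁻¹ * e⁻¹⁻¹ = e⁻¹ * (u * e * u⁻¹ * e⁻¹)⁻¹ * e⁻¹⁻¹ := by group
          rw [e1]
          exact conj_mem_of_inv hEM (E₀.inv_mem he) (M₁.inv_mem (he' u hu)) }
    have hET : E₀ ≤ T := by
      conv_lhs => rw [← hN.gen hEG d.invE]
      refine iSup₂_le fun a ha => ?_
      intro e he
      exact ⟨he.1, fun u hu => hFc a ha e he u hu⟩
    have hPM : P ≤ M₁ := by
      conv_lhs => rw [← d.commE]
      rw [Subgroup.commutator_le]
      intro u hu e he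
      exact (hET he).2 u hu
    have hPM' : P ≤ M := d.eq_of_sup_comm_aux hMP hPM
    apply hPnc
    refine hPM'.trans (iSup₂_le ?_)
    rintro a ⟨haA, ha1⟩
    exact hcon a haA ha1
  refine ⟨a, haA, ha1, hna, ?_⟩
  set F := Fx E₀ a with hF
  have hFE : F ≤ E₀ := inf_le_left
  have hFi : Inv A F := hN.inv_fx d.invE haA
  set J : Subgroup Γ := D ⊔ F ⊔ P with hJ
  have hJG : J ≤ G := sup_le (sup_le hDG (hFE.trans hEG)) hPG
  have hJi : Inv A J := Inv.sup (Inv.sup hDi hFi) d.invP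
  have hJeq : J = G := by
    by_contra hne
    have hnil := d.mc.nil hJG hne hJi
    have hDJ : D ≤ J := le_sup_of_le_left le_sup_left
    have hFJ : F ≤ J := le_sup_of_le_left le_sup_right
    have hPJ : P ≤ J := le_sup_right
    have h1 : D ≤ ⁅J, J⁆ := by
      conv_lhs => rw [← hD]
      exact Subgroup.commutator_mono hDJ hPJ
    have h2 : ⁅P, F⁆ ≤ ⁅J, J⁆ := Subgroup.commutator_mono hPJ hFJ
    apply hna
    have hRp : IsPGroup p (⁅P, F⁆ : Subgroup Γ) := d.syl.2.1.to_le (hcomP hFE)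
    intro u hu
    rw [mem_centralizer_iff]
    intro y hy
    exact (comm_of_nilp hnil h2 h1 hRp hDp hu hy).symm
  let X₀ : Subgroup Γ :=
    { carrier := {u | u ∈ P ∧ ∀ e ∈ F, e * u * e⁻¹ ∈ centralizer (D : Set Γ)}
      mul_mem' := by
        rintro u v ⟨hu, hu'⟩ ⟨hv, hv'⟩
        refine ⟨P.mul_mem hu hv, fun e he => ?_⟩
        have e1 : e * (u * v) * e⁻¹ = (e * u * e⁻¹) * (e * v * e⁻¹) := by group
        rw [e1]
        exact mul_mem (hu' e he) (hv' e he)
      one_mem' := ⟨P.one_mem, fun e _ => by simp [one_mem]⟩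
      inv_mem' := by
        rintro u ⟨hu, hu'⟩
        refine ⟨P.inv_mem hu, fun e he => ?_⟩
        have e1 : e * u⁻¹ * e⁻¹ = (e * u * e⁻¹)⁻¹ := by group
        rw [e1]
        exact inv_mem (hu' e he) }
  have hX₀P : X₀ ≤ P := fun u hu => hu.1
  have hX₀C : X₀ ≤ centralizer (D : Set Γ) := fun u hu => by
    have := hu.2 1 (one_mem _)
    simpa using this
  have hCD : ∀ g ∈ normalizer (D : Set Γ), ∀ x ∈ centralizer (D : Set Γ),
      g * x * g⁻¹ ∈ centralizer (D : Set Γ) := by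
    intro g hg x hx
    have hCn : normalizer (D : Set Γ) ≤ normalizer (centralizer (D : Set Γ) : Set Γ) :=
      Inv.centralizer le_rfl
    exact conj_mem_of_inv hCn hg hx
  have hDn : D ≤ normalizer (X₀ : Set Γ) := by
    apply inv_of_conj
    intro g hg u hu
    have hc := mem_centralizer_iff.1 (hX₀C hu) g hg
    have : g * u * g⁻¹ = u := by rw [hc]; group
    rwa [this]
  have hFn : F ≤ normalizer (X₀ : Set Γ) := by
    apply inv_of_conj
    intro f hf u hu
    refine ⟨conj_mem_of_inv hEP (hFE hf) hu.1, fun e he => ?_⟩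
    have e1 : e * (f * u * f⁻¹) * e⁻¹ = (e * f) * u * (e * f)⁻¹ := by group
    rw [e1]
    exact hu.2 _ (F.mul_mem he hf)
  have hPn : P ≤ normalizer (X₀ : Set Γ) := by
    apply inv_of_conj
    intro v hv u hu
    refine ⟨P.mul_mem (P.mul_mem hv hu.1) (P.inv_mem hv), fun e he => ?_⟩
    have e1 : e * (v * u * v⁻¹) * e⁻¹ = (e * v * e⁻¹) * (e * u * e⁻¹) * (e * v * e⁻¹)⁻¹ := by group
    rw [e1]
    exact hCD _ (hPD (conj_mem_of_inv hEP (hFE he) hv)) _ (hu.2 e he)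
  have hAn : Inv A X₀ := by
    apply inv_of_conj
    intro b hb u hu
    refine ⟨conj_mem_of_inv d.invP hb hu.1, fun e he => ?_⟩
    have e1 : e * (b * u * b⁻¹) * e⁻¹ = b * ((b⁻¹ * e * b) * u * (b⁻¹ * e * b)⁻¹) * b⁻¹ := by group
    rw [e1]
    refine hCD _ (hDi hb) _ (hu.2 _ ?_)
    have := conj_mem_of_inv hFi (A.inv_mem hb) he
    simpa using this
  have hGn : G ≤ normalizer (X₀ : Set Γ) := by
    rw [← hJeq]
    exact sup_le (sup_le hDn hFn) hPn
  have hX₀b : X₀ = ⊥ := d.mc.eq_bot_of_normal (hX₀P.trans hPG) hGn hAn (fun heq => d.neG (by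
    apply le_antisymm hPG
    rw [← heq]; exact hX₀P))
  intro u hu hu'
  have : u ∈ X₀ := ⟨hu, hu'⟩
  rwa [hX₀b, Subgroup.mem_bot] at this

end PData

end Cfsg.Agent.Lib.FpfPP
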