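/- Packaging the K-infinity theorems. -/
import Cfsg.Agent.Lib.FpfPP.Main1
import Cfsg.Agent.S1984
import Cfsg.Agent.S1985

set_option autoImplicit false
set_option linter.unusedSectionVars false
set_option linter.style.longLine false

namespace Cfsg.Agent.Lib.FpfPP

open Subgroup Cfsg.Agent.Lib.Coprime.Action
open scoped commutatorElement

universe u

variable {Γ : Type u} [Group Γ] [Finite Γ] {G A : Subgroup Γ} {q p : ℕ}

namespace KPack

/-- The conjugation invariance of a subgroup. -/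
theorem mem_normalizer_of_map_eq {H : Subgroup Γ} {g : Γ}
    (h : H.map (MulAut.conj g).toMonoidHom = H) : g ∈ normalizer (H : Set Γ) := by
  rw [mem_normalizer_iff]
  intro x
  constructor
  · intro hx
    rw [← h]
    exact ⟨x, hx, rfl⟩
  · intro hx
    rw [← h] at hx
    obtain ⟨y, hy, hyx⟩ := hx
    have : y = x := by
      have h1 : g * y * g⁻¹ = g * x * g⁻¹ := hyx
      exact mul_left_cancel (mul_right_cancel h1)
    exact this ▸ hy

theorem map_eq_of_mem_normalizer {H : Subgroup Γ} {g : Γ} (h : g ∈ normalizer (H : Set Γ)) :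
    H.map (MulAut.conj g).toMonoidHom = H := by
  rw [mem_normalizer_iff] at h
  ext x
  constructor
  · rintro ⟨y, hy, rfl⟩
    exact (h y).1 hy
  · intro hx
    refine ⟨g⁻¹ * x * g, ?_, ?_⟩
    · rw [SetLike.mem_coe, h]
      have e : g * (g⁻¹ * x * g) * g⁻¹ = x := by group
      rwa [e]
    · show g * (g⁻¹ * x * g) * g⁻¹ = x
      group

/-- The functor. -/
abbrev KK (P : Subgroup Γ) : Subgroup Γ := Cfsg.inducedFunctor (G := Γ) Cfsg.kInfLower P

variable [Fact p.Prime]

theorem normalizer_le_K {P : Subgroup Γ} (hP : IsPGroup p P) :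
    normalizer (P : Set Γ) ≤ normalizer (KK P : Set Γ) := by
  intro g hg
  apply mem_normalizer_of_map_eq
  have h := (Cfsg.Agent.Lib.KInf.WeakKInf.isConj_kInfLower (G := Γ) (p := p) P hP).2.2 g
  rw [map_eq_of_mem_normalizer hg] at h
  exact h.symm

theorem KK_le {P : Subgroup Γ} (hP : IsPGroup p P) : KK P ≤ P :=
  (Cfsg.Agent.Lib.KInf.WeakKInf.isConj_kInfLower (G := Γ) (p := p) P hP).1

theorem KK_ne {P : Subgroup Γ} (hP : IsPGroup p P) (h1 : P ≠ ⊥) : KK P ≠ ⊥ :=
  (Cfsg.Agent.Lib.KInf.WeakKInf.isConj_kInfLower (G := Γ) (p := p) P hP).2.1 h1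

/-- Transfer in the subgroup `G`. -/
theorem transfer_le (hp5 : 5 ≤ p) {P : Subgroup Γ} (hP : IsSylowIn p P G) :
    P ⊓ ⁅G, G⁆ ≤ ⁅G ⊓ normalizer (KK P : Set Γ), G ⊓ normalizer (KK P : Set Γ)⁆ := by
  have hPp : IsPGroup p (P.subgroupOf G) := hP.2.1.comap_subtype
  let S : Sylow p G := hPp.toSylow hP.2.2
  have h := Cfsg.Agent.Lib.KInf.Transfer.eq_of_ctl
    (Cfsg.Agent.Lib.KInf.Transfer.ctl_kInfLower (X := G) (p := p) hp5) S
  have hN : (normalizer ((Cfsg.inducedFunctor Cfsg.kInfLower (S : Subgroup G) : Subgroup G) : Set G)).map G.subtype =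
      G ⊓ normalizer (KK P : Set Γ) := by
    ext x
    constructor
    · rintro ⟨y, hy, rfl⟩
      refine ⟨y.2, ?_⟩
      have h2 := (Cfsg.Agent.Lib.KInf.WeakStep.mem_normalizer_map G _ y).1 hy
      rw [show (S : Subgroup G) = P.subgroupOf G from rfl,
        Cfsg.Agent.Lib.KInf.WeakKInf.map_induced_subgroupOf hP.1] at h2
      exact h2
    · rintro ⟨hx, hx2⟩
      refine ⟨⟨x, hx⟩, ?_, rfl⟩
      apply (Cfsg.Agent.Lib.KInf.WeakStep.mem_normalizer_map G _ _).2
      rw [show (S : Subgroup G) = P.subgroupOf G from rfl,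
        Cfsg.Agent.Lib.KInf.WeakKInf.map_induced_subgroupOf hP.1]
      exact hx2
  rintro x ⟨hx1, hx2⟩
  have hGG : (commutator G).map G.subtype = ⁅G, G⁆ := by
    rw [commutator_def, Subgroup.map_commutator, ← MonoidHom.range_eq_map, Subgroup.range_subtype]
  rw [← hGG] at hx2
  obtain ⟨y, hy, rfl⟩ := hx2
  have hyS : y ∈ (S : Subgroup G) := hx1
  have h3 : y ∈ (S : Subgroup G) ⊓ commutator G := ⟨hyS, hy⟩
  rw [h] at h3
  rw [← hN, ← Subgroup.map_commutator]
  exact ⟨y, h3.2, rfl⟩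

/-- Weak closure for an arbitrary Sylow subgroup of `G`. -/
theorem weak_of (hp2 : p ≠ 2) {P : Subgroup Γ} (hP : IsSylowIn p P G) {z : Γ} (hz : z ∈ P)
    (hzN : ∀ n ∈ G ⊓ normalizer (KK P : Set Γ), z * n = n * z) {g : Γ} (hg : g ∈ G)
    (hgz : g * z * g⁻¹ ∈ P) : g * z * g⁻¹ = z := by
  obtain ⟨-, T, hTG, hTp, hTi, hT⟩ :=
    Cfsg.Agent.Lib.KInf.WeakKInf.controls_weak_closure_kInfLower (G := Γ) (p := p) hp2 G
  have hTs : IsSylowIn p T G := ⟨hTG, hTp, hTi⟩
  obtain ⟨k, hk, hkT⟩ := hTs.exists_conj hP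
  have hkT' : T.map (MulAut.conj k).toMonoidHom = P := hkT
  have hW : KK P = (KK T).map (MulAut.conj k).toMonoidHom := by
    have := (Cfsg.Agent.Lib.KInf.WeakKInf.isConj_kInfLower (G := Γ) (p := p) T hTp).2.2 k
    rw [hkT'] at this
    exact this
  -- membership in `T`
  have hmemT : ∀ x, x ∈ P → k⁻¹ * x * k ∈ T := by
    intro x hx
    rw [← hkT'] at hx
    obtain ⟨y, hy, rfl⟩ := hx
    have e : k⁻¹ * ((MulAut.conj k).toMonoidHom y) * k = y := by
      show k⁻¹ * (k * y * k⁻¹) * k = y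
      group
    rw [e]
    exact hy
  have hz' : k⁻¹ * z * k ∈ T ⊓ centralizer ((G ⊓ normalizer (KK T : Set Γ) : Subgroup Γ) : Set Γ) := by
    refine ⟨hmemT z hz, mem_centralizer_iff.2 ?_⟩
    intro n hn
    obtain ⟨hnG, hnN⟩ := Subgroup.mem_inf.1 hn
    have hn' : k * n * k⁻¹ ∈ G ⊓ normalizer (KK P : Set Γ) := by
      refine Subgroup.mem_inf.2 ⟨G.mul_mem (G.mul_mem hk hnG) (G.inv_mem hk), ?_⟩
      rw [hW]
      rw [mem_normalizer_iff] at hnN ⊢
      intro x
      constructor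
      · rintro ⟨y, hy, rfl⟩
        refine ⟨n * y * n⁻¹, (hnN y).1 hy, ?_⟩
        show k * (n * y * n⁻¹) * k⁻¹ = k * n * k⁻¹ * (k * y * k⁻¹) * (k * n * k⁻¹)⁻¹
        group
      · rintro ⟨y, hy, hyx⟩
        have hyx' : k * y * k⁻¹ = k * n * k⁻¹ * x * (k * n * k⁻¹)⁻¹ := hyx
        refine ⟨n⁻¹ * y * n, ?_, ?_⟩
        · rw [SetLike.mem_coe, hnN]
          have e : n * (n⁻¹ * y * n) * n⁻¹ = y := by group
          rwa [e]
        · show k * (n⁻¹ * y * n) * k⁻¹ = x
          have e2 : x = (k * n * k⁻¹)⁻¹ * (k * y * k⁻¹) * (k * n * k⁻¹) := by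
            rw [hyx']
            group
          rw [e2]
          group
    have h1 := hzN _ hn'
    have h2 : k⁻¹ * (z * (k * n * k⁻¹)) * k = k⁻¹ * (k * n * k⁻¹ * z) * k := by rw [h1]
    calc n * (k⁻¹ * z * k) = k⁻¹ * (k * n * k⁻¹ * z) * k := by group
      _ = k⁻¹ * (z * (k * n * k⁻¹)) * k := h2.symm
      _ = k⁻¹ * z * k * n := by group
  have hgT : (k⁻¹ * g * k) * (k⁻¹ * z * k) * (k⁻¹ * g * k)⁻¹ ∈ T := by
    have := hmemT _ hgz
    have e : k⁻¹ * (g * z * g⁻¹) * k = (k⁻¹ * g * k) * (k⁻¹ * z * k) * (k⁻¹ * g * k)⁻¹ := by group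
    rwa [e] at this
  have h3 := hT _ hz' (k⁻¹ * g * k) (G.mul_mem (G.mul_mem (G.inv_mem hk) hg) hk) hgT
  have e : (k⁻¹ * g * k) * (k⁻¹ * z * k) * (k⁻¹ * g * k)⁻¹ = k⁻¹ * (g * z * g⁻¹) * k := by group
  rw [e] at h3
  exact mul_left_cancel (mul_right_cancel h3)

end KPack

/-- `[P, E₀]` is normalized by `P`. -/
theorem KPack.comm_normalized {P E : Subgroup Γ} {y : Γ} (hy : y ∈ P) :
    y ∈ normalizer ((⁅P, E⁆ : Subgroup Γ) : Set Γ) := by
  apply KPack.mem_normalizer_of_map_eq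
  apply le_antisymm
  · rw [Subgroup.map_le_iff_le_comap, Subgroup.commutator_le]
    intro x hx e he
    rw [Subgroup.mem_comap]
    show y * ⁅x, e⁆ * y⁻¹ ∈ ⁅P, E⁆
    have h1 : y * ⁅x, e⁆ * y⁻¹ = ⁅y * x, e⁆ * ⁅y, e⁆⁻¹ := by
      simp only [commutatorElement_def]
      group
    rw [h1]
    exact Subgroup.mul_mem _ (Subgroup.commutator_mem_commutator (P.mul_mem hy hx) he)
      (Subgroup.inv_mem _ (Subgroup.commutator_mem_commutator hy he))
  · intro t ht
    refine ⟨y⁻¹ * t * y, ?_, ?_⟩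
    · have key : ⁅P, E⁆ ≤ Subgroup.comap (MulAut.conj y⁻¹).toMonoidHom ⁅P, E⁆ := ?_
      · have h2 := key ht
        rw [Subgroup.mem_comap] at h2
        have h3 : (MulAut.conj y⁻¹).toMonoidHom t = y⁻¹ * t * y := by
          show y⁻¹ * t * y⁻¹⁻¹ = _
          rw [inv_inv]
        rw [h3] at h2
        exact h2
      rw [Subgroup.commutator_le]
      intro x hx e he
      rw [Subgroup.mem_comap]
      show y⁻¹ * ⁅x, e⁆ * y⁻¹⁻¹ ∈ ⁅P, E⁆
      have h1 : y⁻¹ * ⁅x, e⁆ * y⁻¹⁻¹ = ⁅y⁻¹ * x, e⁆ * ⁅y⁻¹, e⁆⁻¹ := by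
        simp only [commutatorElement_def]
        group
      rw [h1]
      exact Subgroup.mul_mem _ (Subgroup.commutator_mem_commutator (P.mul_mem (P.inv_mem hy) hx) he)
        (Subgroup.inv_mem _ (Subgroup.commutator_mem_commutator (P.inv_mem hy) he))
    · show y * (y⁻¹ * t * y) * y⁻¹ = t
      group

/-- A perfect `p`-group is trivial. -/
theorem KPack.subsingleton_of_perfect {Q : Type*} [Group Q] [Finite Q] {p : ℕ} [Fact p.Prime]
    (hQ : IsPGroup p Q) (hc : commutator Q = ⊤) : Subsingleton Q := by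
  have hn : Group.IsNilpotent Q := hQ.isNilpotent
  obtain ⟨n, hn'⟩ : ∃ n, derivedSeries Q n = ⊥ := (Group.isSolvable_def Q).1 inferInstance
  have h1 : ∀ m, derivedSeries Q m = ⊤ := by
    intro m
    induction m with
    | zero => rfl
    | succ m ih =>
      rw [derivedSeries_succ, ih]
      exact hc
  rw [h1 n] at hn'
  exact Subgroup.subsingleton_iff.1 (subsingleton_of_bot_eq_top hn'.symm)

/-- The key step for `⁅P, E₀⁆ = P`. -/
theorem KPack.le_comm {N P E : Subgroup Γ} [Fact p.Prime] (hPp : IsPGroup p P)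
    (hE : ¬ p ∣ Nat.card E) (hsup : P ⊔ E = N) (hPn : N ≤ normalizer (P : Set Γ))
    (hPNN : P ≤ ⁅N, N⁆) : P ≤ ⁅P, E⁆ := by
  classical
  have hPN : P ≤ N := hsup ▸ le_sup_left
  have hEN : E ≤ N := hsup ▸ le_sup_right
  have hEP : E ≤ normalizer (P : Set Γ) := hEN.trans hPn
  set R : Subgroup Γ := ⁅P, E⁆ with hR
  have hRP : R ≤ P := by
    rw [hR, Subgroup.commutator_le]
    intro x hx e he
    rw [commutatorElement_def]
    have h1 : e * x⁻¹ * e⁻¹ ∈ P := (mem_normalizer_iff.1 (hEP he) _).1 (P.inv_mem hx)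
    have h2 : x * e * x⁻¹ * e⁻¹ = x * (e * x⁻¹ * e⁻¹) := by group
    rw [h2]
    exact P.mul_mem hx h1
  have hPR : P ≤ normalizer (R : Set Γ) := fun y hy => KPack.comm_normalized hy
  have hER : E ≤ normalizer (R : Set Γ) := le_normalizer_commutator_of_le hEP Subgroup.le_normalizer
  have hNR : N ≤ normalizer (R : Set Γ) := hsup ▸ sup_le hPR hER
  set M : Subgroup Γ := R ⊔ E with hM
  have hMN : M ≤ N := sup_le (hRP.trans hPN) hEN
  have hEM : E ≤ normalizer (M : Set Γ) := Inv.sup hER Subgroup.le_normalizer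
  have hPM : P ≤ normalizer (M : Set Γ) := by
    apply inv_of_conj
    intro y hy x hx
    have key : M ≤ Subgroup.comap (MulAut.conj y).toMonoidHom M := by
      refine sup_le ?_ ?_
      · intro r hr
        rw [Subgroup.mem_comap]
        exact (le_sup_left : R ≤ M) ((mem_normalizer_iff.1 (hPR hy) r).1 hr)
      · intro e he
        rw [Subgroup.mem_comap]
        show y * e * y⁻¹ ∈ M
        have h1 : y * e * y⁻¹ = ⁅y, e⁆ * e := by
          rw [commutatorElement_def]
          group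
        rw [h1]
        exact M.mul_mem ((le_sup_left : R ≤ M) (Subgroup.commutator_mem_commutator hy he))
          ((le_sup_right : E ≤ M) he)
    exact key hx
  have hNM : N ≤ normalizer (M : Set Γ) := hsup ▸ sup_le hPM hEM
  -- the quotient
  have hMn : (M.subgroupOf N).Normal := (Subgroup.normal_subgroupOf_iff_le_normalizer hMN).2 hNM
  let π := QuotientGroup.mk' (M.subgroupOf N)
  have hπs : Function.Surjective π := QuotientGroup.mk'_surjective _
  have htop : P.subgroupOf N ⊔ M.subgroupOf N = ⊤ := by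
    apply Subgroup.map_injective N.subtype_injective
    rw [Subgroup.map_sup, Subgroup.map_subgroupOf_eq_of_le hPN, Subgroup.map_subgroupOf_eq_of_le hMN,
      ← MonoidHom.range_eq_map, Subgroup.range_subtype]
    apply le_antisymm (sup_le hPN hMN)
    rw [← hsup]
    exact sup_le_sup_left (le_sup_right : E ≤ M) P
  have himg : (P.subgroupOf N).map π = ⊤ := by
    have h1 : (P.subgroupOf N ⊔ M.subgroupOf N).map π = ⊤ := by
      rw [htop, ← MonoidHom.range_eq_map]
      exact MonoidHom.range_eq_top.2 hπs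
    rw [Subgroup.map_sup] at h1
    have h2 : (M.subgroupOf N).map π = ⊥ := by
      rw [Subgroup.map_eq_bot_iff]
      intro t ht
      exact (QuotientGroup.eq_one_iff t).2 ht
    rwa [h2, sup_bot_eq] at h1
  have hQp : IsPGroup p (↥N ⧸ M.subgroupOf N) := by
    intro t
    have ht : t ∈ (P.subgroupOf N).map π := by
      rw [himg]
      trivial
    obtain ⟨x, hx, rfl⟩ := ht
    obtain ⟨k, hk⟩ := hPp ⟨x.1, hx⟩
    refine ⟨k, ?_⟩
    have h1 : x ^ p ^ k = 1 := by
      apply Subtype.ext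
      have := congrArg Subtype.val hk
      simpa using this
    rw [← map_pow, h1, map_one]
  have hQc : commutator (↥N ⧸ M.subgroupOf N) = ⊤ := by
    rw [eq_top_iff, ← himg]
    intro t ht
    obtain ⟨x, hx, rfl⟩ := ht
    have hNc : (commutator N).map N.subtype = ⁅N, N⁆ := by
      rw [commutator_def, Subgroup.map_commutator, ← MonoidHom.range_eq_map, Subgroup.range_subtype]
    have h1 : (x : Γ) ∈ (commutator N).map N.subtype := by
      rw [hNc]
      exact hPNN hx
    obtain ⟨y, hy, hyx⟩ := h1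
    have hyx' : y = x := Subtype.ext hyx
    rw [← hyx']
    have h2 : (commutator N).map π ≤ commutator (↥N ⧸ M.subgroupOf N) := by
      rw [commutator_def, commutator_def, Subgroup.map_commutator]
      exact Subgroup.commutator_mono le_top le_top
    exact h2 ⟨y, hy, rfl⟩
  have hQs := KPack.subsingleton_of_perfect hQp hQc
  have hMtop : M.subgroupOf N = ⊤ := QuotientGroup.subgroup_eq_top_of_subsingleton _ hQs
  have hNleM : N ≤ M := (Subgroup.subgroupOf_eq_top).1 hMtop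
  -- Dedekind
  have hcop : Nat.Coprime (Nat.card P) (Nat.card E) := by
    obtain ⟨k, hk⟩ := IsPGroup.iff_card.1 hPp
    rw [hk]
    exact Nat.Coprime.pow_left k ((Nat.Prime.coprime_iff_not_dvd (Fact.out : p.Prime)).2 hE)
  have hinf : P ⊓ E = ⊥ := disjoint_iff.1 (Subgroup.disjoint_of_coprime_natCard hcop)
  intro x hx
  have hxM : x ∈ M := hNleM (hPN hx)
  have hset := Subgroup.coe_mul_of_right_le_normalizer_left R E hER
  have hxM' : x ∈ ((R ⊔ E : Subgroup Γ) : Set Γ) := hxM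
  rw [hset] at hxM'
  obtain ⟨r, hr, e, he, rfl⟩ := Set.mem_mul.1 hxM'
  have he1 : e ∈ P ⊓ E := by
    refine ⟨?_, he⟩
    have h3 : e = r⁻¹ * (r * e) := by group
    rw [h3]
    exact P.mul_mem (P.inv_mem (hRP hr)) hx
  rw [hinf] at he1
  have he2 : e = 1 := he1
  rw [he2, mul_one]
  exact hr

open KPack in
/-- The K-infinity package: for an invariant Sylow `P` of the perfect `G`, `N = N_G(K_∞(P))`. -/
theorem kinf_package (h : MC G A q) (hp : p.Prime) (hp5 : 5 ≤ p) (hpG : p ∣ Nat.card G) :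
    ∃ P N E₀ : Subgroup Γ, PData G A q p P N E₀ := by
  classical
  have : Fact p.Prime := ⟨hp⟩
  have hb : BaseNT G A q := h.toBaseNT
  obtain ⟨P, hPs, hPA⟩ := exists_invariant_sylowIn (p := p) hb.inv hb.copA (Or.inl hb.isSolvable_A)
  have hPG := hPs.1
  have hPp := hPs.2.1
  have hP1 : P ≠ ⊥ := by
    rintro rfl
    apply hPs.2.2
    rw [Subgroup.relIndex_bot_left]
    exact hpG
  have hKP : KK P ≤ P := KK_le hPp
  have hK1 : KK P ≠ ⊥ := KK_ne hPp hP1
  have hNK : normalizer (P : Set Γ) ≤ normalizer (KK P : Set Γ) := normalizer_le_K hPp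
  have hAK : A ≤ normalizer (KK P : Set Γ) := hPA.trans hNK
  have hNG : G ⊓ normalizer (KK P : Set Γ) ≤ G := inf_le_left
  have hNi : Inv A (G ⊓ normalizer (KK P : Set Γ)) :=
    Inv.inf hb.inv (hAK.trans Subgroup.le_normalizer)
  have hneN : G ⊓ normalizer (KK P : Set Γ) ≠ G := by
    intro hNeq
    have hGK : G ≤ normalizer (KK P : Set Γ) := inf_eq_left.1 hNeq
    rcases h.simple (KK P) (hKP.trans hPG) hGK hAK with h0 | h0
    · exact hK1 h0
    · have hPeq : P = G := le_antisymm hPG (h0 ▸ hKP)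
      apply h.nons
      rw [← hPeq]
      have h3 : Group.IsNilpotent P := hPp.isNilpotent
      infer_instance
  have hPN : P ≤ G ⊓ normalizer (KK P : Set Γ) := le_inf hPG (Subgroup.le_normalizer.trans hNK)
  have hsolN : Group.IsSolvable (G ⊓ normalizer (KK P : Set Γ) : Subgroup Γ) := h.solv _ hNG hneN hNi
  have hnilN := h.nil hNG hneN hNi
  have hPNN : P ≤ ⁅G ⊓ normalizer (KK P : Set Γ), G ⊓ normalizer (KK P : Set Γ)⁆ := by
    have h1 := transfer_le hp5 hPs
    rw [h.perfect, inf_eq_left.2 hPG] at h1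
    exact h1
  have hPopp : opp p ⁅G ⊓ normalizer (KK P : Set Γ), G ⊓ normalizer (KK P : Set Γ)⁆ = P := by
    apply le_antisymm ?_ (le_opp hPNN hPp)
    set R := opp p ⁅G ⊓ normalizer (KK P : Set Γ), G ⊓ normalizer (KK P : Set Γ)⁆ with hR
    have hRp : IsPGroup p R := isPGroup_opp hnilN
    have hPR : P ≤ R := le_opp hPNN hPp
    have hRG : R ≤ G := by
      refine opp_le.trans ?_
      refine le_trans (Subgroup.commutator_le.2 fun x hx y hy => ?_) hNG
      rw [commutatorElement_def]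
      exact Subgroup.mul_mem _ (Subgroup.mul_mem _ (Subgroup.mul_mem _ hx hy) (Subgroup.inv_mem _ hx)) (Subgroup.inv_mem _ hy)
    have h1 : P.relIndex R ∣ P.relIndex G :=
      ⟨R.relIndex G, (Subgroup.relIndex_mul_relIndex P R G hPR hRG).symm⟩
    have h2 : P.relIndex R ∣ Nat.card R := ⟨Nat.card P, by
      rw [card_eq_card_mul_relIndex hPR, mul_comm]⟩
    obtain ⟨k, hk⟩ := IsPGroup.iff_card.1 hRp
    rw [hk] at h2
    obtain ⟨j, -, hj⟩ := (Nat.dvd_prime_pow hp).1 h2
    rw [← Subgroup.relIndex_eq_one]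
    by_contra hne
    apply hPs.2.2
    have hj0 : j ≠ 0 := by
      rintro rfl
      exact hne (by simpa using hj)
    refine dvd_trans ?_ h1
    rw [hj]
    exact dvd_pow_self p hj0
  have hnrmP : G ⊓ normalizer (KK P : Set Γ) ≤ normalizer (P : Set Γ) := by
    have h1 : G ⊓ normalizer (KK P : Set Γ) ≤ normalizer
        (opp p ⁅G ⊓ normalizer (KK P : Set Γ), G ⊓ normalizer (KK P : Set Γ)⁆ : Set Γ) :=
      le_trans (le_normalizer_commutator_of_le Subgroup.le_normalizer Subgroup.le_normalizer) normalizer_le_opp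
    rwa [hPopp] at h1
  obtain ⟨E₀, hE, hAE⟩ := Cfsg.Agent.Lib.Coprime.Hall.exists_invariant_hall ({r | r ≠ p} : Set ℕ) hNi
    (hb.copA_le hNG) hsolN
  have hEN := hE.1
  have hcopE : ¬ p ∣ Nat.card E₀ := fun hd => (hE.2.1 p hp hd) rfl
  have hsup : P ⊔ E₀ = G ⊓ normalizer (KK P : Set Γ) := by
    apply le_antisymm (sup_le hPN hEN)
    rw [← Subgroup.relIndex_eq_one]
    by_contra hne
    obtain ⟨r, hr, hrd⟩ := Nat.exists_prime_and_dvd hne
    by_cases hrp : r = p
    · rw [hrp] at hrd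
      apply hPs.2.2
      have h1 : (P ⊔ E₀).relIndex (G ⊓ normalizer (KK P : Set Γ)) ∣ P.relIndex (G ⊓ normalizer (KK P : Set Γ)) :=
        Subgroup.relIndex_dvd_of_le_left _ le_sup_left
      have h2 : P.relIndex (G ⊓ normalizer (KK P : Set Γ)) ∣ P.relIndex G :=
        ⟨(G ⊓ normalizer (KK P : Set Γ)).relIndex G, (Subgroup.relIndex_mul_relIndex P _ G hPN hNG).symm⟩
      exact (hrd.trans h1).trans h2
    · exact hE.2.2 r hr hrp (hrd.trans (Subgroup.relIndex_dvd_of_le_left _ le_sup_right))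
  have hRP : ⁅P, E₀⁆ ≤ P := by
    rw [Subgroup.commutator_le]
    intro x hx e he
    rw [commutatorElement_def]
    have h1 : e * x⁻¹ * e⁻¹ ∈ P := (mem_normalizer_iff.1 (hnrmP (hEN he)) _).1 (P.inv_mem hx)
    have h2 : x * e * x⁻¹ * e⁻¹ = x * (e * x⁻¹ * e⁻¹) := by group
    rw [h2]
    exact P.mul_mem hx h1
  have hcomm : ⁅P, E₀⁆ = P := le_antisymm hRP (KPack.le_comm hPp hcopE hsup hnrmP hPNN)
  refine ⟨P, G ⊓ normalizer (KK P : Set Γ), E₀, ?_⟩
  exact
    { mc := h
      hp := hp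
      syl := hPs
      invP := hPA
      neP := hP1
      leNG := hNG
      invN := hNi
      neN := hneN
      leP := hPN
      nrmP := hnrmP
      nrmN := inf_le_inf_left G hNK
      weak := fun z hz hzN g hg hgz => KPack.weak_of (by omega) hPs hz hzN hg hgz
      leE := hEN
      invE := hAE
      copE := hcopE
      supE := hsup
      commE := hcomm }

end Cfsg.Agent.Lib.FpfPP
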