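/- Lemma AB: `P` abelian with a line having no fixed points is impossible. -/
import Cfsg.Agent.Lib.FpfPP.Main1

set_option autoImplicit false

namespace Cfsg.Agent.Lib.FpfPP

open Subgroup Cfsg.Agent.Lib.Coprime.Action
open Cfsg.Agent.Lib.Coprime.Generation2 Cfsg.Agent.Lib.Coprime.SchurZassenhaus
open scoped Pointwise commutatorElement

universe u

namespace ABaux

variable {Γ : Type u} [Group Γ] [Finite Γ]

theorem card_sup_dvd' {X J : Subgroup Γ} (h : X ≤ normalizer (J : Set Γ)) :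
    Nat.card ↥(J ⊔ X) ∣ Nat.card J * Nat.card X := by
  classical
  set H := J ⊔ X with hH
  haveI hJn : (J.subgroupOf H).Normal :=
    Subgroup.normal_subgroupOf_of_le_normalizer (sup_le le_normalizer h)
  have htop : J.subgroupOf H ⊔ X.subgroupOf H = ⊤ := by
    rw [eq_top_iff]
    rintro ⟨x, hx⟩ -
    obtain ⟨j, hj, a, ha, e⟩ := exists_mul_of_mem_sup h hx
    subst e
    have h1 : (⟨j * a, hx⟩ : H) = ⟨j, le_sup_left (a := J) hj⟩ * ⟨a, le_sup_right (a := J) ha⟩ := rfl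
    rw [h1]
    exact Subgroup.mul_mem_sup (by simpa [mem_subgroupOf] using hj) (by simpa [mem_subgroupOf] using ha)
  have h2 := Subgroup.relIndex_sup_left (H := X.subgroupOf H) (K := J.subgroupOf H)
  rw [htop, relIndex_top_right] at h2
  have h3 := Subgroup.card_mul_index (J.subgroupOf H)
  have h4 : Nat.card (J.subgroupOf H) = Nat.card J := by
    have := Subgroup.subgroupOfEquivOfLe (le_sup_left : J ≤ H)
    exact Nat.card_congr this.toEquiv
  have h5 : Nat.card (X.subgroupOf H) = Nat.card X := by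
    have := Subgroup.subgroupOfEquivOfLe (le_sup_right : X ≤ H)
    exact Nat.card_congr this.toEquiv
  rw [← h3, h4]
  apply Nat.mul_dvd_mul_left
  rw [h2, ← h5]
  exact Subgroup.relIndex_dvd_card _ _

theorem not_dvd_sup {p : ℕ} (hp : p.Prime) {X J : Subgroup Γ} (h : X ≤ normalizer (J : Set Γ))
    (hX : ¬ p ∣ Nat.card X) (hJ : ¬ p ∣ Nat.card J) : ¬ p ∣ Nat.card ↥(J ⊔ X) := by
  intro hd
  rcases (Nat.Prime.dvd_mul hp).1 (hd.trans (card_sup_dvd' h)) with h1 | h1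
  · exact hJ h1
  · exact hX h1

theorem not_dvd_biSup {p : ℕ} (hp : p.Prime) {ι : Type*} {s : Set ι} (hs : s.Finite)
    (f : ι → Subgroup Γ)
    (h : ∀ i ∈ s, ¬ p ∣ Nat.card (f i)) (hn : ∀ i ∈ s, ∀ j ∈ s, f i ≤ normalizer (f j : Set Γ)) :
    ¬ p ∣ Nat.card ↥(⨆ i ∈ s, f i) := by
  induction s, hs using Set.Finite.induction_on with
  | empty =>
    simp only [Set.mem_empty_iff_false, iSup_false, iSup_bot]
    simpa using hp.one_lt.ne'
  | @insert a s ha hs ih =>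
    rw [iSup_insert, sup_comm]
    refine not_dvd_sup hp ?_ (h a (Set.mem_insert _ _)) (ih (fun i hi => h i (Set.mem_insert_of_mem _ hi))
      (fun i hi j hj => hn i (Set.mem_insert_of_mem _ hi) j (Set.mem_insert_of_mem _ hj)))
    exact le_normalizer_biSup _ _ _ (fun i hi => hn a (Set.mem_insert _ _) i (Set.mem_insert_of_mem _ hi))

theorem zp_eq {G A : Subgroup Γ} {q : ℕ} (h : BaseNT G A q) {a b : Γ} (ha : a ∈ A) (ha1 : a ≠ 1)
    (hb : b ∈ zpowers a) (hb1 : b ≠ 1) : zpowers b = zpowers a := by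
  have hbA : b ∈ A := (zpowers_le.mpr ha) hb
  apply Subgroup.eq_of_le_of_card_ge (zpowers_le.mpr hb)
  rw [Nat.card_zpowers, Nat.card_zpowers, h.orderOf_eq ha ha1, h.orderOf_eq hbA hb1]

theorem cop_aux {p : ℕ} (hp : p.Prime) {W D : Subgroup Γ} (hW : IsPGroup p W) (hD : ¬ p ∣ Nat.card D) :
    (Nat.card W).Coprime (Nat.card D) := by
  haveI := Fact.mk hp
  obtain ⟨k, hk⟩ := IsPGroup.iff_card.1 hW
  rw [hk]
  exact Nat.Coprime.pow_left k ((Nat.Prime.coprime_iff_not_dvd hp).2 hD)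

/-- `C^j = C_G(Q_j)`. -/
def CC (G A P : Subgroup Γ) (j : Γ) : Subgroup Γ := G ⊓ centralizer (Tt A P j : Set Γ)

/-- `B_j = [K^j, P_j]`, where `K^j` is the `p'`-part of `[C^j, C^j]`. -/
def BB (p : ℕ) (G A P : Subgroup Γ) (j : Γ) : Subgroup Γ :=
  ⁅opc p ⁅CC G A P j, CC G A P j⁆, Fx P j⁆

end ABaux

open ABaux

variable {Γ : Type u} [Group Γ] [Finite Γ] {G A : Subgroup Γ} {q p : ℕ} {P N E₀ : Subgroup Γ}

namespace PData

section

variable (d : PData G A q p P N E₀) (hPc : ∀ x ∈ P, ∀ y ∈ P, x * y = y * x)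
include d hPc

theorem AB_key1 {Y : Subgroup Γ} (hYG : Y ≤ G) (hYi : Inv A Y) (hYp : ¬ p ∣ Nat.card Y)
    (hYn : Group.IsNilpotent Y) {j : Γ} (hj : j ∈ A) (hj1 : j ≠ 1)
    (hPY : Fx P j ≤ normalizer (Y : Set Γ)) :
    ⁅Y, Fx P j⁆ ≤ centralizer (Tt A P j : Set Γ) ∧ ⁅⁅Y, Fx P j⁆, Fx P j⁆ = ⁅Y, Fx P j⁆ := by
  have hB := d.mc.toBase
  have h := hB.toBaseNT
  have hPG : P ≤ G := d.syl.1
  have hW1 : Fx P j ≤ P := inf_le_left
  have hWp : IsPGroup p (Fx P j) := d.syl.2.1.to_le hW1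
  have hcop : (Nat.card (Fx P j)).Coprime (Nat.card Y) := cop_aux d.hp hWp hYp
  have hsolv : Group.IsSolvable (Fx P j) ∨ Group.IsSolvable Y := Or.inr inferInstance
  have hcc := commutator_commutator_eq hPY hcop hsolv
  refine ⟨?_, hcc⟩
  have hDY : ⁅Y, Fx P j⁆ ≤ Y := commutator_le_of_le_normalizer hPY
  have hWi : Inv A (Fx P j) := h.inv_fx d.invP hj
  rw [Subgroup.le_centralizer_iff]
  refine iSup₂_le (fun m hm => ?_)
  rw [← Subgroup.le_centralizer_iff]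
  have hm1 : m ≠ 1 := fun e => hm.2 (e ▸ one_mem _)
  have hDp : ¬ p ∣ Nat.card (⁅Y, Fx P j⁆ : Subgroup Γ) :=
    fun hd => hYp (hd.trans (Subgroup.card_dvd_of_le hDY))
  refine kl_comm h.hq (nilp_of_le hYn hDY) (fun u hu v hv => hPc u (hW1 hu) v (hW1 hv))
    (le_normalizer_commutator_right _ _) (Inv.comm hYi hWi hm.1) (hWi hm.1) (h.pow_q hm.1) ?_
    (cop_aux d.hp hWp hDp) (fun hd => h.cop (hd.trans (Subgroup.card_dvd_of_le (hDY.trans hYG))))
    (fun hd => h.cop (hd.trans (Subgroup.card_dvd_of_le (hW1.trans hPG)))) hcc ?_ ?_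
  · rw [eq_bot_iff]
    intro x hx
    have h0 := hB.fx_inf hPG hj hj1 hm.1 hm.2
    have hx' : x ∈ Fx P j ⊓ Fx P m := ⟨hx.1, ⟨hx.1.1, hx.2⟩⟩
    rwa [h0] at hx'
  · intro u hu
    rw [mem_centralizer_iff]
    intro v hv
    exact hPc v hv.1 u hu.1
  · intro u hu
    rw [mem_centralizer_iff]
    intro v hv
    exact h.abel m hm.1 hm1 v ⟨hPG hv.1, hv.2⟩ u ⟨hDY.trans hYG hu.1, hu.2⟩

variable {b : Γ} (hb : b ∈ A) (hb1 : b ≠ 1) (hbf : Fx P b = ⊥)
include hb hb1 hbf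

theorem AB_Tt_ne {j : Γ} (hj : j ∈ Off A b) : Tt A P j ≠ ⊥ := by
  have h := d.mc.toBase.toBaseNT
  obtain ⟨c, hc, hc1, hc2⟩ := h.exists_off hj.1 hb
  have h1 := d.atmost hb hb1 hbf ⟨hc, hc2⟩
  intro h0
  apply h1
  rw [eq_bot_iff, ← h0]
  exact le_iSup₂_of_le c ⟨hc, hc1⟩ le_rfl

omit hb hb1 hbf in
theorem AB_Tt_le (j : Γ) : Tt A P j ≤ P := iSup₂_le (fun _ _ => inf_le_left)

omit hb hb1 hbf in
theorem AB_Tt_inv {j : Γ} : Inv A (Tt A P j) :=
  le_normalizer_biSup _ _ _ (fun c hc => d.mc.toBase.toBaseNT.inv_fx d.invP hc.1)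

omit hb hb1 hbf in
theorem AB_CC_inv {j : Γ} : Inv A (CC G A P j) :=
  Inv.inf d.mc.inv (Inv.centralizer (AB_Tt_inv d hPc))

theorem AB_CC_ne {j : Γ} (hj : j ∈ Off A b) : CC G A P j ≠ G :=
  d.mc.ne_centralizer ((AB_Tt_le d hPc j).trans d.syl.1) (AB_Tt_inv d hPc)
    (AB_Tt_ne d hPc hb hb1 hbf hj)

theorem AB_M_nil {j : Γ} (hj : j ∈ Off A b) :
    Group.IsNilpotent (⁅CC G A P j, CC G A P j⁆ : Subgroup Γ) :=
  d.mc.nil inf_le_left (AB_CC_ne d hPc hb hb1 hbf hj) (AB_CC_inv d hPc)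

omit hb hb1 hbf in
theorem AB_W_le_CC (j : Γ) : Fx P j ≤ CC G A P j := by
  intro u hu
  refine Subgroup.mem_inf.mpr ⟨d.syl.1 hu.1, ?_⟩
  rw [mem_centralizer_iff]
  intro v hv
  exact hPc v (AB_Tt_le d hPc j hv) u hu.1

omit hb hb1 hbf in
theorem AB_K_norm (j : Γ) : CC G A P j ≤
    normalizer (opc p ⁅CC G A P j, CC G A P j⁆ : Set Γ) := by
  haveI := Fact.mk d.hp
  exact (le_normalizer_commutator_left _ _).trans normalizer_le_opc

omit hb hb1 hbf in
theorem AB_K_inv (j : Γ) : Inv A (opc p ⁅CC G A P j, CC G A P j⁆) := by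
  haveI := Fact.mk d.hp
  exact (Inv.comm (AB_CC_inv d hPc) (AB_CC_inv d hPc)).trans normalizer_le_opc

omit hb hb1 hbf in
theorem AB_K_le (j : Γ) : opc p ⁅CC G A P j, CC G A P j⁆ ≤ CC G A P j := by
  haveI := Fact.mk d.hp
  exact opc_le.trans (commutator_le_of_le_normalizer le_normalizer)

omit hb hb1 hbf in
theorem AB_K_le_G (j : Γ) : opc p ⁅CC G A P j, CC G A P j⁆ ≤ G :=
  (AB_K_le d hPc j).trans inf_le_left

omit hb hb1 hbf in
theorem AB_W_norm_K (j : Γ) : Fx P j ≤ normalizer (opc p ⁅CC G A P j, CC G A P j⁆ : Set Γ) :=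
  (AB_W_le_CC d hPc j).trans (AB_K_norm d hPc j)

theorem AB_K_p {j : Γ} (hj : j ∈ Off A b) : ¬ p ∣ Nat.card (opc p ⁅CC G A P j, CC G A P j⁆) := by
  haveI := Fact.mk d.hp
  exact not_dvd_opc (AB_M_nil d hPc hb hb1 hbf hj)

theorem AB_K_nil {j : Γ} (hj : j ∈ Off A b) : Group.IsNilpotent (opc p ⁅CC G A P j, CC G A P j⁆) := by
  haveI := Fact.mk d.hp
  exact nilp_of_le (AB_M_nil d hPc hb hb1 hbf hj) opc_le

theorem AB_BB_le_K {j : Γ} : BB p G A P j ≤ opc p ⁅CC G A P j, CC G A P j⁆ :=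
  commutator_le_of_le_normalizer (AB_W_norm_K d hPc j)

theorem AB_BB_le_G {j : Γ} : BB p G A P j ≤ G :=
  (AB_BB_le_K d hPc hb hb1 hbf).trans (AB_K_le_G d hPc j)

theorem AB_BB_p {j : Γ} (hj : j ∈ Off A b) : ¬ p ∣ Nat.card (BB p G A P j) := fun hd =>
  AB_K_p d hPc hb hb1 hbf hj (hd.trans (Subgroup.card_dvd_of_le (AB_BB_le_K d hPc hb hb1 hbf)))

theorem AB_BB_nil {j : Γ} (hj : j ∈ Off A b) : Group.IsNilpotent (BB p G A P j) :=
  nilp_of_le (AB_K_nil d hPc hb hb1 hbf hj) (AB_BB_le_K d hPc hb hb1 hbf)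

theorem AB_BB_inv {j : Γ} (hj : j ∈ Off A b) : Inv A (BB p G A P j) :=
  Inv.comm (AB_K_inv d hPc j) (d.mc.toBase.toBaseNT.inv_fx d.invP hj.1)

theorem AB_j1 {j : Γ} (hj : j ∈ Off A b) : j ≠ 1 := fun e => hj.2 (e ▸ one_mem _)

theorem AB_BB_spec {j : Γ} (hj : j ∈ Off A b) :
    BB p G A P j ≤ centralizer (Tt A P j : Set Γ) ∧ ⁅BB p G A P j, Fx P j⁆ = BB p G A P j :=
  AB_key1 d hPc (AB_K_le_G d hPc j) (AB_K_inv d hPc j) (AB_K_p d hPc hb hb1 hbf hj)
    (AB_K_nil d hPc hb hb1 hbf hj) hj.1 (AB_j1 d hPc hb hb1 hbf hj) (AB_W_norm_K d hPc j)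

/-- (i) -/
theorem AB_key2 {Y : Subgroup Γ} (hYG : Y ≤ G) (hYi : Inv A Y) (hYp : ¬ p ∣ Nat.card Y)
    (hYn : Group.IsNilpotent Y) {j : Γ} (hj : j ∈ Off A b)
    (hPY : Fx P j ≤ normalizer (Y : Set Γ)) : ⁅Y, Fx P j⁆ ≤ BB p G A P j := by
  haveI := Fact.mk d.hp
  obtain ⟨h1, h2⟩ := AB_key1 d hPc hYG hYi hYp hYn hj.1 (AB_j1 d hPc hb hb1 hbf hj) hPY
  have hDY : ⁅Y, Fx P j⁆ ≤ Y := commutator_le_of_le_normalizer hPY
  have hDC : ⁅Y, Fx P j⁆ ≤ CC G A P j := le_inf (hDY.trans hYG) h1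
  have hDM : ⁅Y, Fx P j⁆ ≤ ⁅CC G A P j, CC G A P j⁆ := by
    rw [← h2]
    exact Subgroup.commutator_mono hDC (AB_W_le_CC d hPc j)
  have hDK : ⁅Y, Fx P j⁆ ≤ opc p ⁅CC G A P j, CC G A P j⁆ :=
    le_opc hDM (fun hd => hYp (hd.trans (Subgroup.card_dvd_of_le hDY)))
  rw [← h2]
  exact Subgroup.commutator_mono hDK le_rfl

/-- The generation step for `B_j`. -/
theorem AB_comm_aux {j m : Γ} (hj : j ∈ Off A b) (hm : m ∈ Off A j) {S : Set Γ}
    (h1 : Fx P j ≤ centralizer S) (h2 : Fx (BB p G A P j) m ≤ centralizer S) :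
    BB p G A P j ≤ centralizer S := by
  have hB := d.mc.toBase
  have h := hB.toBaseNT
  have hPG : P ≤ G := d.syl.1
  have hW1 : Fx P j ≤ P := inf_le_left
  have hWp : IsPGroup p (Fx P j) := d.syl.2.1.to_le hW1
  have hWi : Inv A (Fx P j) := h.inv_fx d.invP hj.1
  refine kl_comm h.hq (AB_BB_nil d hPc hb hb1 hbf hj) (fun u hu v hv => hPc u (hW1 hu) v (hW1 hv))
    (le_normalizer_commutator_right _ _) (AB_BB_inv d hPc hb hb1 hbf hj hm.1) (hWi hm.1) (h.pow_q hm.1) ?_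
    (cop_aux d.hp hWp (AB_BB_p d hPc hb hb1 hbf hj))
    (fun hd => h.cop (hd.trans (Subgroup.card_dvd_of_le (AB_BB_le_G d hPc hb hb1 hbf))))
    (fun hd => h.cop (hd.trans (Subgroup.card_dvd_of_le (hW1.trans hPG))))
    (AB_BB_spec d hPc hb hb1 hbf hj).2 h1 h2
  rw [eq_bot_iff]
  intro x hx
  have h0 := hB.fx_inf hPG hj.1 (AB_j1 d hPc hb hb1 hbf hj) hm.1 hm.2
  have hx' : x ∈ Fx P j ⊓ Fx P m := ⟨hx.1, ⟨hx.1.1, hx.2⟩⟩
  rwa [h0] at hx'

/-- (ii) -/
theorem AB_BB_comm {j j' : Γ} (hj : j ∈ Off A b) (hj' : j' ∈ Off A b) (h12 : j' ∉ zpowers j)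
    (h21 : j ∉ zpowers j') : BB p G A P j' ≤ centralizer (BB p G A P j : Set Γ) := by
  have h := d.mc.toBase.toBaseNT
  obtain ⟨m, hm, hm1, hm2⟩ := h.exists_off hj.1 hj'.1
  have hm0 : m ≠ 1 := fun e => hm1 (e ▸ one_mem _)
  -- Step 1
  have s1 : BB p G A P j ≤ centralizer (Fx (BB p G A P j') m : Set Γ) := by
    refine AB_comm_aux d hPc hb hb1 hbf hj ⟨hm, hm1⟩ ?_ ?_
    · rw [← Subgroup.le_centralizer_iff]
      have : Fx (BB p G A P j') m ≤ BB p G A P j' := inf_le_left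
      refine this.trans ((AB_BB_spec d hPc hb hb1 hbf hj').1.trans ?_)
      apply Subgroup.centralizer_le
      exact (le_iSup₂_of_le j ⟨hj.1, h21⟩ le_rfl : Fx P j ≤ Tt A P j')
    · intro u hu
      rw [mem_centralizer_iff]
      intro v hv
      exact h.abel m hm hm0 v ⟨AB_BB_le_G d hPc hb hb1 hbf hv.1, hv.2⟩ u
        ⟨AB_BB_le_G d hPc hb hb1 hbf hu.1, hu.2⟩
  refine AB_comm_aux d hPc hb hb1 hbf hj' ⟨hm, hm2⟩ ?_ ?_
  · rw [← Subgroup.le_centralizer_iff]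
    refine (AB_BB_spec d hPc hb hb1 hbf hj).1.trans ?_
    apply Subgroup.centralizer_le
    exact (le_iSup₂_of_le j' ⟨hj'.1, h12⟩ le_rfl : Fx P j' ≤ Tt A P j)
  · rw [← Subgroup.le_centralizer_iff]
    exact s1

theorem AB_BB_congr {j j' : Γ} (hj : j ∈ Off A b) (hj' : j' ∈ Off A b) (h12 : j' ∈ zpowers j) :
    BB p G A P j' = BB p G A P j := by
  have h := d.mc.toBase.toBaseNT
  have hj1 := AB_j1 d hPc hb hb1 hbf hj
  have hj'1 := AB_j1 d hPc hb hb1 hbf hj'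
  have hz := zp_eq h hj.1 hj1 h12 hj'1
  have hF : Fx P j' = Fx P j := h.fx_congr P hj.1 hj1 h12 hj'1
  have hT : Tt A P j' = Tt A P j := by
    unfold Tt Off
    rw [hz]
  unfold BB CC
  rw [hF, hT]

/-- The subgroup `𝔹`. -/
theorem AB_BBB_p : ¬ p ∣ Nat.card ↥(⨆ j ∈ Off A b, BB p G A P j) := by
  have h := d.mc.toBase.toBaseNT
  refine not_dvd_biSup d.hp (Set.toFinite _) _ (fun j hj => AB_BB_p d hPc hb hb1 hbf hj) ?_
  intro i hi j hj
  by_cases hji : j ∈ zpowers i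
  · rw [AB_BB_congr d hPc hb hb1 hbf hi hj hji]
    exact le_normalizer
  · have h21 : i ∉ zpowers j := by
      intro hij
      have := zp_eq h hj.1 (AB_j1 d hPc hb hb1 hbf hj) hij (AB_j1 d hPc hb hb1 hbf hi)
      apply hji
      rw [this]
      exact mem_zpowers j
    exact (AB_BB_comm d hPc hb hb1 hbf hj hi h21 hji).trans (centralizer_le_normalizer _)

theorem AB_BBB_inv : Inv A (⨆ j ∈ Off A b, BB p G A P j) :=
  le_normalizer_biSup _ _ _ (fun _ hj => AB_BB_inv d hPc hb hb1 hbf hj)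

theorem AB_BBB_le : (⨆ j ∈ Off A b, BB p G A P j) ≤ G :=
  iSup₂_le (fun _ _ => AB_BB_le_G d hPc hb hb1 hbf)

/-- (iii): normalized by `C_G(P)`. -/
theorem AB_BBB_norm : G ⊓ centralizer (P : Set Γ) ≤
    normalizer ((⨆ j ∈ Off A b, BB p G A P j : Subgroup Γ) : Set Γ) := by
  refine le_normalizer_biSup _ _ _ (fun j _ => ?_)
  refine le_normalizer_commutator_of_le ?_ ?_
  · refine le_trans ?_ (AB_K_norm d hPc j)
    refine le_inf inf_le_left (inf_le_right.trans ?_)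
    exact Subgroup.centralizer_le (AB_Tt_le d hPc j)
  · refine le_trans ?_ (centralizer_le_normalizer _)
    refine inf_le_right.trans ?_
    exact Subgroup.centralizer_le inf_le_left

/-- (iv) -/
theorem AB_iv {i h : Γ} (hi : i ∈ Off A b) (hh : h ∈ Fx G i) :
    h ∈ (⨆ j ∈ Off A b, BB p G A P j) ⊔ (G ⊓ centralizer (P : Set Γ)) := by
  haveI := Fact.mk d.hp
  have hB := d.mc.toBase
  have hN := hB.toBaseNT
  have hPG : P ≤ G := d.syl.1
  have hi1 : i ≠ 1 := AB_j1 d hPc hb hb1 hbf hi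
  have hWi : Inv A (Fx P i) := hN.inv_fx d.invP hi.1
  set Ci : Subgroup Γ := G ⊓ centralizer (Fx P i : Set Γ) with hCi
  have hCne : Ci ≠ G :=
    d.mc.ne_centralizer (inf_le_left.trans hPG) hWi (d.atmost hb hb1 hbf hi)
  have hCinv : Inv A Ci := Inv.inf d.mc.inv (Inv.centralizer hWi)
  have hPC : P ≤ Ci := fun u hu => Subgroup.mem_inf.mpr ⟨hPG hu, by
    rw [mem_centralizer_iff]
    intro v hv
    exact hPc v hv.1 u hu⟩
  have hhC : h ∈ Ci := Subgroup.mem_inf.mpr ⟨hh.1, by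
    rw [mem_centralizer_iff]
    intro v hv
    exact hN.abel i hi.1 hi1 v ⟨hPG hv.1, hv.2⟩ h hh⟩
  have hM : Group.IsNilpotent (⁅Ci, Ci⁆ : Subgroup Γ) := d.mc.nil inf_le_left hCne hCinv
  have hMC : (⁅Ci, Ci⁆ : Subgroup Γ) ≤ Ci := commutator_le_of_le_normalizer le_normalizer
  set Y : Subgroup Γ := opc p ⁅Ci, Ci⁆ with hY
  set U : Subgroup Γ := opp p ⁅Ci, Ci⁆ with hU
  have hYG : Y ≤ G := opc_le.trans (hMC.trans inf_le_left)
  have hYp : ¬ p ∣ Nat.card Y := not_dvd_opc hM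
  have hYn : Group.IsNilpotent Y := nilp_of_le hM opc_le
  have hCY : Ci ≤ normalizer (Y : Set Γ) := (le_normalizer_commutator_left _ _).trans normalizer_le_opc
  have hYi : Inv A Y := (Inv.comm hCinv hCinv).trans normalizer_le_opc
  have hUi : Inv A U := (Inv.comm hCinv hCinv).trans normalizer_le_opp
  have hUP : U ≤ P :=
    d.le_of_inv (opp_le.trans (hMC.trans inf_le_left)) (isPGroup_opp hM) hUi
  have hPY : P ≤ normalizer (Y : Set Γ) := hPC.trans hCY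
  have hcop : (Nat.card P).Coprime (Nat.card Y) := cop_aux d.hp d.syl.2.1 hYp
  -- Frattini
  have hsyl : IsSylowIn p P (Y ⊔ P) := by
    refine ⟨le_sup_right, d.syl.2.1, fun hd => d.syl.2.2 ?_⟩
    have := Subgroup.relIndex_mul_relIndex P (Y ⊔ P) G le_sup_right (sup_le hYG hPG)
    rw [← this]
    exact hd.trans (Nat.dvd_mul_right _ _)
  have hconj : ∀ u ∈ P, h * u * h⁻¹ ∈ Y ⊔ P := by
    intro u hu
    have hc : ⁅h, u⁆ ∈ (⁅Ci, Ci⁆ : Subgroup Γ) := Subgroup.commutator_mem_commutator hhC (hPC hu)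
    obtain ⟨u', hu', y, hy, e⟩ := exists_mul_opp_opc (p := p) hM hc
    have e2 : h * u * h⁻¹ = ⁅h, u⁆ * u := by
      rw [commutatorElement_def]; group
    rw [e2, e]
    exact Subgroup.mul_mem _ (Subgroup.mul_mem _ (Subgroup.mem_sup_right (hUP hu'))
      (Subgroup.mem_sup_left hy)) (Subgroup.mem_sup_right hu)
  have hsyl' : IsSylowIn p (MulAut.conj h • P) (Y ⊔ P) := by
    have hle : MulAut.conj h • P ≤ Y ⊔ P := by
      rintro _ ⟨u, hu, rfl⟩
      exact hconj u hu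
    refine ⟨hle, d.syl.2.1.map _, ?_⟩
    rw [relIndex_eq_of_card_eq hle hsyl.1 (card_conj_smul h P)]
    exact hsyl.2.2
  obtain ⟨k, hk, hk'⟩ := hsyl.exists_conj hsyl'
  obtain ⟨y, hy, u, hu, rfl⟩ := exists_mul_of_mem_sup hPY hk
  have hn : y⁻¹ * h ∈ normalizer (P : Set Γ) := by
    apply mem_normalizer_of_conj_smul_eq
    rw [conj_mul_smul, ← hk', conj_mul_smul, conj_smul_self_of_mem_normalizer (le_normalizer hu),
      ← conj_mul_smul]
    simp
  -- fixed factorization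
  have hzi : zpowers i ≤ A := zpowers_le.mpr hi.1
  have hsolvz : Group.IsSolvable (zpowers i) ∨ Group.IsSolvable G :=
    Or.inl (by haveI := hN.isSolvable_A; exact isSolvable_of_le hzi)
  have hcz : ∀ x, x ∈ centralizer ({i} : Set Γ) ↔ x ∈ centralizer (zpowers i : Set Γ) := by
    intro x
    rw [Subgroup.zpowers_eq_closure, Subgroup.centralizer_closure]
  have hhz : h ∈ centralizer (zpowers i : Set Γ) := (hcz h).1 hh.2
  have hzY : zpowers i ≤ normalizer (Y : Set Γ) := hzi.trans hYi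
  have hzNP : zpowers i ≤ normalizer ((G ⊓ normalizer (P : Set Γ) : Subgroup Γ) : Set Γ) := by
    refine hzi.trans (Inv.inf d.mc.inv ?_)
    intro a ha
    rw [mem_normalizer_iff]
    intro x
    have hap : a ∈ normalizer (P : Set Γ) := d.invP ha
    constructor
    · intro hx
      exact Subgroup.mul_mem _ (Subgroup.mul_mem _ hap hx) (Subgroup.inv_mem _ hap)
    · intro hx
      have := Subgroup.mul_mem _ (Subgroup.mul_mem _ (Subgroup.inv_mem _ hap) hx) hap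
      have e : a⁻¹ * (a * x * a⁻¹) * a = x := by group
      rwa [e] at this
  have hnG : y⁻¹ * h ∈ G ⊓ normalizer (P : Set Γ) :=
    Subgroup.mem_inf.mpr ⟨G.mul_mem (G.inv_mem (hYG hy)) hh.1, hn⟩
  obtain ⟨y', hy', n', hn', hyn⟩ := exists_fixed_factor (A := zpowers i) (K := G) Y
    (G ⊓ normalizer (P : Set Γ)) (hN.copZ hi.1) hsolvz hYG hzY hzNP hhz hy hnG (by group)
  -- `n'` centralizes `P`
  have hn'T : n' ∈ G ⊓ centralizer (P : Set Γ) := by
    have hnN : n' ∈ N := d.nrmN hn'.1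
    have hEP : E₀ ≤ normalizer (P : Set Γ) := d.leE.trans d.nrmP
    rw [← d.supE] at hnN
    obtain ⟨u₁, hu₁, e₁, he₁, hue⟩ := exists_mul_of_mem_sup hEP hnN
    obtain ⟨u', hu', e', he', hue'⟩ := exists_fixed_factor (A := zpowers i) (K := G) P E₀
      (hN.copZ hi.1) hsolvz hPG (hzi.trans d.invP) (hzi.trans d.invE) hn'.2 hu₁ he₁ hue
    have hfx : e' ∈ Fx E₀ i := ⟨he'.1, (hcz e').2 he'.2⟩
    have h3 : e' ∈ centralizer (P : Set Γ) :=
      d.f1 le_rfl d.invP hEP hb hb1 hbf hi hfx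
    have h4 : u' ∈ centralizer (P : Set Γ) := by
      rw [mem_centralizer_iff]
      intro v hv
      exact hPc v hv u' hu'.1
    rw [hue']
    refine Subgroup.mem_inf.mpr ⟨G.mul_mem (hPG hu'.1) (d.leNG (d.leE he'.1)), Subgroup.mul_mem _ h4 h3⟩
  -- `Y ≤ 𝔹 C_G(P)`
  have hYP : ⁅Y, P⁆ ≤ (⨆ j ∈ Off A b, BB p G A P j) := by
    set BBB : Subgroup Γ := ⨆ j ∈ Off A b, BB p G A P j with hBBB
    have hPn : P ≤ normalizer (BBB : Set Γ) := by
      refine le_trans (le_inf hPG ?_) (AB_BBB_norm d hPc hb hb1 hbf)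
      intro u hu
      rw [mem_centralizer_iff]
      intro v hv
      exact hPc v hv u hu
    let S : Subgroup Γ :=
      { carrier := {u | u ∈ P ∧ ∀ y ∈ Y, ⁅y, u⁆ ∈ BBB}
        mul_mem' := by
          rintro u v ⟨hu, hu'⟩ ⟨hv, hv'⟩
          refine ⟨P.mul_mem hu hv, fun y hy => ?_⟩
          have e : ⁅y, u * v⁆ = ⁅y, u⁆ * (u * ⁅y, v⁆ * u⁻¹) := by
            simp only [commutatorElement_def]; group
          rw [e]
          exact BBB.mul_mem (hu' y hy) (conj_mem_of_le_normalizer hPn hu (hv' y hy))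
        one_mem' := ⟨P.one_mem, fun y _ => by simp⟩
        inv_mem' := by
          rintro u ⟨hu, hu'⟩
          refine ⟨P.inv_mem hu, fun y hy => ?_⟩
          have e : ⁅y, u⁻¹⁆ = u⁻¹ * (⁅y, u⁆)⁻¹ * u⁻¹⁻¹ := by
            simp only [commutatorElement_def]; group
          rw [e]
          exact conj_mem_of_le_normalizer hPn (P.inv_mem hu) (BBB.inv_mem (hu' y hy)) }
    have hPS : P ≤ S := by
      have hgen := hN.gen hPG d.invP
      have : (⨆ a ∈ Sharp A, Fx P a) ≤ S := by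
        refine iSup₂_le (fun a ha u hu => ⟨hu.1, fun y hy => ?_⟩)
        by_cases hab : a ∈ zpowers b
        · have e := hN.fx_congr P hb hb1 hab ha.2
          rw [e, hbf, Subgroup.mem_bot] at hu
          rw [hu]
          simp
        · have hoff : a ∈ Off A b := ⟨ha.1, hab⟩
          have := AB_key2 d hPc hb hb1 hbf hYG hYi hYp hYn hoff (inf_le_left.trans hPY)
          exact (le_iSup₂_of_le a hoff le_rfl : BB p G A P a ≤ BBB)
            (this (Subgroup.commutator_mem_commutator hy hu))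
      rwa [hgen] at this
    rw [Subgroup.commutator_le]
    intro y hy u hu
    exact (hPS hu).2 y hy
  have hYle : Y ≤ (⨆ j ∈ Off A b, BB p G A P j) ⊔ (G ⊓ centralizer (P : Set Γ)) := by
    have hcs := commutator_sup_fixed hPY hcop (Or.inr (by infer_instance))
    rw [← hcs]
    refine sup_le (hYP.trans le_sup_left) (le_trans ?_ le_sup_right)
    exact inf_le_inf_right _ hYG
  rw [hyn]
  exact Subgroup.mul_mem _ (hYle hy'.1) (Subgroup.mem_sup_right hn'T)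

end

/-- **AB.** -/
theorem ab (d : PData G A q p P N E₀) (hPc : ∀ x ∈ P, ∀ y ∈ P, x * y = y * x) {b : Γ} (hb : b ∈ A) (hb1 : b ≠ 1) (hbf : Fx P b = ⊥) : False := by
  have hle := AB_BBB_le d hPc hb hb1 hbf
  have hp' := AB_BBB_p d hPc hb hb1 hbf
  have hG : G ≤ (⨆ j ∈ Off A b, BB p G A P j) ⊔ (G ⊓ centralizer (P : Set Γ)) := by
    rw [← d.mc.gen_off hb hb1]
    refine iSup₂_le (fun i hi h hh => ?_)
    rw [d.mc.gen_off hb hb1]
    exact AB_iv d hPc hb hb1 hbf hi hh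
  have hnorm : G ≤ normalizer ((⨆ j ∈ Off A b, BB p G A P j : Subgroup Γ) : Set Γ) :=
    hG.trans (sup_le le_normalizer (AB_BBB_norm d hPc hb hb1 hbf))
  have hne : (⨆ j ∈ Off A b, BB p G A P j) ≠ G := by
    intro e
    rw [e] at hp'
    apply hp'
    have h1 : p ∣ Nat.card P := by
      haveI := Fact.mk d.hp
      obtain ⟨k, hk⟩ := IsPGroup.iff_card.1 d.syl.2.1
      rw [hk]
      have hk0 : k ≠ 0 := by
        rintro rfl
        apply d.neP
        rw [pow_zero] at hk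
        exact Subgroup.eq_bot_of_card_eq _ hk
      exact dvd_pow_self _ hk0
    exact h1.trans (Subgroup.card_dvd_of_le d.syl.1)
  have hbot := d.mc.eq_bot_of_normal hle hnorm (AB_BBB_inv d hPc hb hb1 hbf) hne
  rw [hbot, bot_sup_eq] at hG
  exact d.mc.ne_centralizer d.syl.1 d.invP d.neP (le_antisymm inf_le_left (le_inf le_rfl (hG.trans inf_le_right)))

end PData

end Cfsg.Agent.Lib.FpfPP
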