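/- The claim and the end of the proof. -/
import Cfsg.Agent.Lib.FpfPP.Main2

set_option autoImplicit false

namespace Cfsg.Agent.Lib.FpfPP

open Subgroup Cfsg.Agent.Lib.Coprime.Action
open scoped commutatorElement

universe u

variable {Γ : Type u} [Group Γ] [Finite Γ] {G A : Subgroup Γ} {q p : ℕ} {P N E₀ : Subgroup Γ}

omit [Finite Γ] in
theorem mem_centralizer_of_comm {S : Set Γ} {g : Γ} (h : ∀ s ∈ S, s * g = g * s) : g ∈ centralizer S :=
  mem_centralizer_iff.mpr h

theorem cop_of {p : ℕ} (hp : p.Prime) {R S : Subgroup Γ} (hR : IsPGroup p R) (hS : ¬ p ∣ Nat.card S) :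
    (Nat.card R).Coprime (Nat.card S) := by
  haveI := Fact.mk hp
  obtain ⟨k, hk⟩ := IsPGroup.iff_card.mp hR
  rw [hk]
  exact Nat.Coprime.pow_left k ((Nat.Prime.coprime_iff_not_dvd hp).mpr hS)

theorem solv_of_p {p : ℕ} (hp : p.Prime) {R : Subgroup Γ} (hR : IsPGroup p R) : Group.IsSolvable R := by
  haveI := Fact.mk hp
  haveI : Group.IsNilpotent R := hR.isNilpotent
  infer_instance

/-- A `p`-element times a commuting `p'`-element is a `p`-element only when the second factor is `1`. -/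
theorem p_elt_split {p : ℕ} (hp : p.Prime) {R S : Subgroup Γ} (hR : IsPGroup p R) (hS : ¬ p ∣ Nat.card S)
    {π y : Γ} (hπ : π ∈ R) (hy : y ∈ S) (hc : π * y = y * π) (k : ℕ) (hk : (π * y) ^ p ^ k = 1) : y = 1 := by
  obtain ⟨k₁, hk₁⟩ := hR ⟨π, hπ⟩
  have hk₁' : π ^ p ^ k₁ = 1 := by
    have := congrArg Subtype.val hk₁
    simpa using this
  have h1 : (π * y) ^ p ^ (k + k₁) = 1 := by
    rw [pow_add, pow_mul, hk, one_pow]
  have hcm : Commute π y := hc
  rw [hcm.mul_pow] at h1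
  have h2 : π ^ p ^ (k + k₁) = 1 := by
    rw [add_comm, pow_add, pow_mul, hk₁', one_pow]
  rw [h2, one_mul] at h1
  have h3 : y ^ Nat.card S = 1 := by
    have h := congrArg Subtype.val (pow_card_eq_one' (x := (⟨y, hy⟩ : S)))
    simpa only [Subgroup.coe_pow, Subgroup.coe_one] using h
  have hg := pow_gcd_eq_one.mpr ⟨h1, h3⟩
  have hcop : Nat.gcd (p ^ (k + k₁)) (Nat.card S) = 1 :=
    Nat.Coprime.pow_left _ ((Nat.Prime.coprime_iff_not_dvd hp).mpr hS)
  rw [hcop, pow_one] at hg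
  exact hg

omit [Finite Γ] in
/-- An element centralizing `S` normalizes it. -/
theorem mem_norm_of_cent {S : Subgroup Γ} {g : Γ} (hg : ∀ s ∈ S, g * s = s * g) : g ∈ normalizer (S : Set Γ) := by
  rw [mem_normalizer_iff]
  intro x
  constructor
  · intro hx
    have : g * x * g⁻¹ = x := by rw [hg x hx]; group
    rwa [this]
  · intro hx
    have h1 := hg _ hx
    have h2 : g * x * g⁻¹ * g = g * x := by group
    rw [h2] at h1
    have h3 : g * x * g⁻¹ = x := mul_left_cancel h1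
    rwa [h3] at hx

theorem not_dvd_of_le {p : ℕ} {R S : Subgroup Γ} (h : R ≤ S) (hS : ¬ p ∣ Nat.card S) : ¬ p ∣ Nat.card R :=
  fun hd => hS (hd.trans (Subgroup.card_dvd_of_le h))

namespace PData

variable (d : PData G A q p P N E₀)
include d

theorem isP : IsPGroup p P := d.syl.2.1

theorem leG : P ≤ G := d.syl.1

theorem leNormE : E₀ ≤ normalizer (P : Set Γ) := d.leE.trans d.nrmP

theorem leEG : E₀ ≤ G := d.leE.trans d.leNG

theorem base : Base G A q := d.mc.toBase

theorem baseNT : BaseNT G A q := d.mc.toBase.toBaseNT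

theorem not_dvd_G_of : ¬ (¬ p ∣ Nat.card G) := by
  intro h
  have hP := d.isP
  have hpp := d.hp
  haveI := Fact.mk hpp
  have h1 : ¬ p ∣ Nat.card P := not_dvd_of_le d.leG h
  obtain ⟨k, hk⟩ := IsPGroup.iff_card.mp hP
  have hk0 : k = 0 := by
    by_contra hk0
    apply h1
    rw [hk]
    exact dvd_pow_self p hk0
  rw [hk0, pow_zero] at hk
  exact d.neP (Subgroup.eq_bot_of_card_eq _ hk)

/-- A `p'`-subgroup `Y ≠ ⊥`-free version: normal closure argument. -/
theorem sup_ne_G {Y R : Subgroup Γ} (hYG : Y ≤ G) (hYi : Inv A Y) (hYp : ¬ p ∣ Nat.card Y)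
    (hRP : R ≤ P) (hRY : R ≤ normalizer (Y : Set Γ)) (hY1 : Y ≠ ⊥) : Y ⊔ R ≠ G := by
  intro he
  have hn : G ≤ normalizer (Y : Set Γ) := by
    rw [← he]
    exact _root_.sup_le le_normalizer hRY
  rcases d.mc.simple Y hYG hn hYi with h | h
  · exact hY1 h
  · exact d.not_dvd_G_of (h ▸ hYp)

/-- **The Claim**: an invariant `p'`-subgroup normalized by `P` centralizes `P`. -/
theorem claim {Y : Subgroup Γ} (hYG : Y ≤ G) (hYi : Inv A Y) (hYp : ¬ p ∣ Nat.card Y)
    (hPY : P ≤ normalizer (Y : Set Γ)) : ⁅Y, P⁆ = ⊥ := by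
  haveI := Fact.mk d.hp
  have hpP := d.isP
  by_contra hD
  have hY1 : Y ≠ ⊥ := by
    rintro rfl
    exact hD (Subgroup.commutator_bot_left _)
  set D : Subgroup Γ := ⁅Y, P⁆ with hDdef
  have hDY : D ≤ Y := commutator_le_of_le_normalizer hPY
  have hcopPY := cop_of d.hp hpP hYp
  have hsolvP : Group.IsSolvable P ∨ Group.IsSolvable Y := Or.inl (solv_of_p d.hp hpP)
  have hDD : ⁅D, P⁆ = D := commutator_commutator_eq hPY hcopPY hsolvP
  have hDi : Inv A D := Inv.comm hYi d.invP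
  have hDp : ¬ p ∣ Nat.card D := not_dvd_of_le hDY hYp
  have hPD : P ≤ normalizer (D : Set Γ) := le_normalizer_commutator_of_le hPY le_normalizer
  set J : Subgroup Γ := Y ⊔ P with hJ
  have hJG : J ≤ G := _root_.sup_le hYG d.leG
  have hJne : J ≠ G := d.sup_ne_G hYG hYi hYp le_rfl hPY hY1
  have hJi : Inv A J := Inv.sup hYi d.invP
  have hM := d.mc.nil hJG hJne hJi
  have hDM : D ≤ ⁅J, J⁆ := Subgroup.commutator_mono le_sup_left le_sup_right
  have hPM : (⁅P, P⁆ : Subgroup Γ) ≤ ⁅J, J⁆ := Subgroup.commutator_mono le_sup_right le_sup_right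
  have hP'P : (⁅P, P⁆ : Subgroup Γ) ≤ P := commutator_le_of_le_normalizer le_normalizer
  have hP'p : IsPGroup p (⁅P, P⁆ : Subgroup Γ) := hpP.to_le hP'P
  have hP'C : (⁅P, P⁆ : Subgroup Γ) ≤ centralizer (D : Set Γ) := by
    intro u hu
    rw [mem_centralizer_iff]
    intro y hy
    exact (comm_of_nilp hM hPM hDM hP'p hDp hu hy).symm
  obtain ⟨a, ha, ha1, -, hau⟩ := d.gen2 (hDY.trans hYG) hDi hDp hPD hDD (by exact hD)
  have hP'1 : (⁅P, P⁆ : Subgroup Γ) = ⊥ := by
    rw [eq_bot_iff]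
    intro u hu
    rw [mem_bot]
    refine hau u (hP'P hu) (fun e he => hP'C ?_)
    have he' : e ∈ normalizer (P : Set Γ) := d.leNormE he.1
    have := (le_normalizer_commutator_of_le (T := normalizer (P : Set Γ)) le_rfl le_rfl) he'
    exact (mem_normalizer_iff.mp this u).mp hu
  have hPc : ∀ x ∈ P, ∀ y ∈ P, x * y = y * x := by
    intro x hx y hy
    have := Subgroup.commutator_mem_commutator hx hy
    rw [hP'1, mem_bot] at this
    exact commutatorElement_eq_one_iff_mul_comm.mp this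
  have hbaseNT := d.baseNT
  have hbase := d.base
  have hgenP := hbaseNT.gen d.leG d.invP
  -- a line with `⁅Y, P_j⁆ ≠ 1`
  obtain ⟨j, hj, hj1, hD₁⟩ : ∃ j ∈ A, j ≠ 1 ∧ (⁅Y, Fx P j⁆ : Subgroup Γ) ≠ ⊥ := by
    by_contra hno
    push_neg at hno
    apply hD
    rw [hDdef, ← hgenP, Subgroup.commutator_comm, Subgroup.commutator_eq_bot_iff_le_centralizer]
    apply iSup₂_le
    rintro a ⟨ha, ha1⟩
    rw [← Subgroup.commutator_eq_bot_iff_le_centralizer, Subgroup.commutator_comm]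
    exact hno a ha ha1
  set W : Subgroup Γ := Fx P j with hW
  set D₁ : Subgroup Γ := ⁅Y, W⁆ with hD₁def
  have hWP : W ≤ P := inf_le_left
  have hWY : W ≤ normalizer (Y : Set Γ) := hWP.trans hPY
  have hWi : Inv A W := hbaseNT.inv_fx d.invP hj
  have hWp : IsPGroup p W := hpP.to_le hWP
  have hD₁Y : D₁ ≤ Y := commutator_le_of_le_normalizer hWY
  have hD₁p : ¬ p ∣ Nat.card D₁ := not_dvd_of_le hD₁Y hYp
  have hD₁i : Inv A D₁ := Inv.comm hYi hWi
  have hcopWY := cop_of d.hp hWp hYp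
  have hD₁D₁ : ⁅D₁, W⁆ = D₁ := commutator_commutator_eq hWY hcopWY (Or.inl (solv_of_p d.hp hWp))
  have hPW : P ≤ normalizer (W : Set Γ) := fun u hu =>
    mem_norm_of_cent (fun w hw => hPc u hu w (hWP hw))
  have hPD₁ : P ≤ normalizer (D₁ : Set Γ) := le_normalizer_commutator_of_le hPY hPW
  have hD₁P : ⁅D₁, P⁆ = D₁ := le_antisymm (commutator_le_of_le_normalizer hPD₁)
    (by
      conv_lhs => rw [← hD₁D₁]
      exact Subgroup.commutator_mono le_rfl hWP)
  have hD₁G : D₁ ≤ G := hD₁Y.trans hYG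
  have hnilD₁ : Group.IsNilpotent D₁ := by
    have hsub : D₁ ≤ ⁅J, J⁆ := hD₁D₁ ▸ Subgroup.commutator_mono (hD₁Y.trans le_sup_left)
      (hWP.trans le_sup_right)
    exact nilp_of_le hM hsub
  have hq := hbaseNT.hq
  have hqG : ¬ q ∣ Nat.card G := hbaseNT.cop
  have hPm : ∀ m ∈ Off A j, (Fx P m : Subgroup Γ) ≤ centralizer (D₁ : Set Γ) := by
    rintro m ⟨hm, hmj⟩
    have hm1 : m ≠ 1 := fun e => hmj (e ▸ one_mem _)
    have h := kl_comm hq (D := D₁) (W := W) (x := m) hnilD₁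
      (fun u hu v hv => hPc u (hWP hu) v (hWP hv))
      (le_normalizer_commutator_of_le hWY le_normalizer) (hD₁i hm) (hWi hm) (hbaseNT.pow_q hm)
      (by
        have h1 := hbase.fx_inf d.leG hj hj1 hm hmj
        rw [eq_bot_iff, ← h1]
        intro x hx
        exact ⟨hx.1, ⟨hx.1.1, hx.2⟩⟩)
      (Nat.Coprime.coprime_dvd_right (Subgroup.card_dvd_of_le hD₁Y) hcopWY)
      (not_dvd_of_le hD₁G hqG) (not_dvd_of_le (hWP.trans d.leG) hqG) hD₁D₁
      (S := (Fx P m : Subgroup Γ))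
      (fun w hw => mem_centralizer_of_comm (fun s hs => hPc s hs.1 w (hWP hw)))
      (fun c hc => mem_centralizer_of_comm (fun s hs =>
        hbaseNT.comm_fx (L := G) le_rfl hm hm1 ⟨d.leG hs.1, hs.2⟩ ⟨hD₁G hc.1, hc.2⟩))
    intro u hu
    exact mem_centralizer_of_comm (fun y hy =>
      (mem_centralizer_iff.mp (h hy) u hu).symm)
  have hD₁ne : D₁ ≠ ⊥ := hD₁
  obtain ⟨l, hl, hl1, hlne, hlu⟩ := d.gen2 hD₁G hD₁i hD₁p hPD₁ hD₁P hD₁ne
  by_cases hlj : l ∈ zpowers j
  · -- same line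
    have hfx : Fx E₀ l = Fx E₀ j := hbaseNT.fx_congr E₀ hj hj1 hlj hl1
    set Q : Subgroup Γ := ⨆ c ∈ Off A j, Fx P c with hQ
    have hQeq : Q = ⁅P, zpowers j⁆ := hbase.off_eq_comm d.leG d.invP hj hj1
    have hQC : Q ≤ centralizer (D₁ : Set Γ) := iSup₂_le hPm
    have hQ1 : Q = ⊥ := by
      rw [eq_bot_iff]
      intro u hu
      rw [mem_bot]
      have huP : u ∈ P := by
        rw [hQeq] at hu
        exact commutator_le_of_le_normalizer (by
          rw [zpowers_le]
          exact d.invP hj) hu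
      refine hlu u huP (fun e he => hQC ?_)
      rw [hfx] at he
      rw [hQeq] at hu ⊢
      have hej : e ∈ normalizer ((zpowers j : Subgroup Γ) : Set Γ) := by
        refine mem_norm_of_cent ?_
        intro s hs
        obtain ⟨n, rfl⟩ := mem_zpowers_iff.mp hs
        have hc : Commute e j := by
          have := mem_centralizer_iff.mp he.2 j rfl
          exact this.symm
        exact (hc.zpow_right n).eq
      have hN := le_normalizer_commutator_of_le (T := normalizer (P : Set Γ) ⊓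
        normalizer ((zpowers j : Subgroup Γ) : Set Γ)) inf_le_left inf_le_right
        (Subgroup.mem_inf.mpr ⟨d.leNormE he.1, hej⟩)
      exact (mem_normalizer_iff.mp hN u).mp hu
    have hPfx : ∀ a ∈ Sharp A, Fx P a ≤ Fx P j := by
      rintro a ⟨ha, ha1⟩
      by_cases haj : a ∈ zpowers j
      · rw [hbaseNT.fx_congr P hj hj1 haj ha1]
      · have : Fx P a ≤ Q := le_iSup₂_of_le a ⟨ha, haj⟩ le_rfl
        rw [hQ1] at this
        exact this.trans bot_le
    have hPj : P ≤ Fx P j := by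
      conv_lhs => rw [← hgenP]
      exact iSup₂_le hPfx
    apply hlne
    rw [hfx, Subgroup.commutator_le]
    intro u hu e he
    have : ⁅u, e⁆ = 1 := by
      rw [commutatorElement_eq_one_iff_mul_comm]
      exact hbaseNT.comm_fx (L := G) le_rfl hj hj1 ⟨d.leG hu, (hPj hu).2⟩ ⟨d.leEG he.1, he.2⟩
    rw [this]
    exact one_mem _
  · -- different line: `P_l = 1`
    have hPl : Fx P l = ⊥ := by
      rw [eq_bot_iff]
      intro u hu
      rw [mem_bot]
      refine hlu u hu.1 (fun e he => ?_)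
      have hcomm := hbaseNT.comm_fx (L := G) le_rfl hl hl1 ⟨d.leEG he.1, he.2⟩ ⟨d.leG hu.1, hu.2⟩
      have : e * u * e⁻¹ = u := by rw [hcomm]; group
      rw [this]
      exact hPm l ⟨hl, hlj⟩ hu
    exact d.ab hPc hl hl1 hPl

/-- A product `π y` with `π ∈ R` (`p`-group) and `y` a commuting `p'`-element which is conjugate to an element of `P`
has `y = 1`. -/
theorem conj_split {R S : Subgroup Γ} (hR : IsPGroup p R) (hS : ¬ p ∣ Nat.card S) {π y g u : Γ} (hπ : π ∈ R)
    (hy : y ∈ S) (hc : π * y = y * π) (hu : u ∈ P) (he : g * u * g⁻¹ = π * y) : y = 1 := by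
  obtain ⟨k, hk⟩ := d.isP ⟨u, hu⟩
  have hk' : u ^ p ^ k = 1 := by
    have h := congrArg Subtype.val hk
    simpa only [Subgroup.coe_pow, Subgroup.coe_one] using h
  refine p_elt_split d.hp hR hS hπ hy hc k ?_
  rw [← he, conj_pow, hk']
  group

/-- Step 3: a proper invariant subgroup containing `P` normalizes `P`. -/
theorem le_normalizer {L : Subgroup Γ} (hLG : L ≤ G) (hne : L ≠ G) (hL : Inv A L) (hPL : P ≤ L) :
    L ≤ normalizer (P : Set Γ) := by
  haveI := Fact.mk d.hp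
  have hM := d.mc.nil hLG hne hL
  set M : Subgroup Γ := ⁅L, L⁆ with hMdef
  have hMi : Inv A M := Inv.comm hL hL
  have hLM : L ≤ normalizer (M : Set Γ) :=
    le_normalizer_commutator_of_le Subgroup.le_normalizer Subgroup.le_normalizer
  have hMG : M ≤ G := (commutator_le_of_le_normalizer Subgroup.le_normalizer).trans hLG
  set Y : Subgroup Γ := opc p M with hY
  set U : Subgroup Γ := opp p M with hU
  have hYG : Y ≤ G := opc_le.trans hMG
  have hYi : Inv A Y := hMi.trans normalizer_le_opc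
  have hYp : ¬ p ∣ Nat.card Y := not_dvd_opc hM
  have hPY : P ≤ normalizer (Y : Set Γ) := (hPL.trans hLM).trans normalizer_le_opc
  have hcl := d.claim hYG hYi hYp hPY
  have hUp : IsPGroup p U := isPGroup_opp hM
  have hUi : Inv A U := hMi.trans normalizer_le_opp
  have hUP : U ≤ P := d.le_of_inv (opp_le.trans hMG) hUp hUi
  have key : ∀ g ∈ L, ∀ u ∈ P, g * u * g⁻¹ ∈ P := by
    intro g hg u hu
    have h1 : ⁅g, u⁆ ∈ M := Subgroup.commutator_mem_commutator hg (hPL hu)
    obtain ⟨v, hv, y, hy, hvy⟩ := exists_mul_opp_opc (p := p) hM h1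
    have hyu : y * u = u * y := by
      have := Subgroup.commutator_mem_commutator hy hu
      rw [hcl, mem_bot] at this
      exact commutatorElement_eq_one_iff_mul_comm.mp this
    have hvu : v * u ∈ P := P.mul_mem (hUP hv) hu
    have he : g * u * g⁻¹ = (v * u) * y := by
      have h2 : g * u * g⁻¹ = ⁅g, u⁆ * u := by
        rw [commutatorElement_def]; group
      rw [h2, hvy, mul_assoc, hyu, ← mul_assoc]
    have hcomm : (v * u) * y = y * (v * u) := by
      rw [mul_assoc, ← hyu, ← mul_assoc, ← mul_assoc, opp_comm_opc hM hv hy]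
    have hy1 := d.conj_split d.isP hYp hvu hy hcomm hu he
    rw [he, hy1, mul_one]
    exact hvu
  intro g hg
  rw [mem_normalizer_iff]
  intro x
  refine ⟨key g hg x, fun hx => ?_⟩
  have := key g⁻¹ (L.inv_mem hg) _ hx
  have e : g⁻¹ * (g * x * g⁻¹) * g⁻¹⁻¹ = x := by group
  rwa [e] at this

/-- Step 3': `E₀` centralizes `Z(P)`. -/
theorem center_central : E₀ ≤ centralizer ((P ⊓ centralizer (P : Set Γ) : Subgroup Γ) : Set Γ) := by
  set Z : Subgroup Γ := P ⊓ centralizer (P : Set Γ) with hZ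
  have hbaseNT := d.baseNT
  have hZP : Z ≤ P := inf_le_left
  have hZi : Inv A Z := d.invP.inf d.invP.centralizer
  have hZE : E₀ ≤ normalizer (Z : Set Γ) :=
    Inv.inf (A := E₀) d.leNormE (Inv.centralizer d.leNormE)
  have hZG : Z ≤ G := hZP.trans d.leG
  -- a line with nontrivial fixed points on `Z` lies in `N`
  have hline : ∀ i ∈ A, i ≠ 1 → Fx Z i ≠ ⊥ → Fx G i ≤ N := by
    intro i hi hi1 hne
    have hRG : Fx Z i ≤ G := inf_le_left.trans hZG
    have hRi : Inv A (Fx Z i) := hbaseNT.inv_fx hZi hi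
    have hC := d.mc.ne_centralizer hRG hRi hne
    have hCi : Inv A (G ⊓ centralizer ((Fx Z i : Subgroup Γ) : Set Γ)) :=
      hbaseNT.inv.inf hRi.centralizer
    have hPC : P ≤ G ⊓ centralizer ((Fx Z i : Subgroup Γ) : Set Γ) := by
      refine _root_.le_inf d.leG ?_
      intro u hu
      rw [mem_centralizer_iff]
      intro z hz
      exact (mem_centralizer_iff.mp hz.1.2 u hu).symm ▸ rfl
    have hCN := d.le_normalizer inf_le_left hC hCi hPC
    have hCN' : G ⊓ centralizer ((Fx Z i : Subgroup Γ) : Set Γ) ≤ N :=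
      (_root_.le_inf inf_le_left hCN).trans d.nrmN
    refine le_trans ?_ hCN'
    intro h hh
    refine ⟨hh.1, mem_centralizer_iff.mpr ?_⟩
    intro z hz
    exact hbaseNT.comm_fx (L := G) le_rfl hi hi1 ⟨hRG hz, hz.2⟩ hh
  -- two lines without fixed points
  have hpair : ∃ l ∈ A, l ≠ 1 ∧ Fx Z l = ⊥ ∧ ∃ c ∈ Off A l, Fx Z c = ⊥ := by
    by_contra hno
    push_neg at hno
    have hex : ∃ l ∈ A, l ≠ 1 ∧ ∀ c ∈ Off A l, Fx Z c ≠ ⊥ := by
      by_cases hl : ∃ l ∈ A, l ≠ 1 ∧ Fx Z l = ⊥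
      · obtain ⟨l, hl, hl1, hlz⟩ := hl
        exact ⟨l, hl, hl1, hno l hl hl1 hlz⟩
      · push_neg at hl
        obtain ⟨l, hl', hl1⟩ : ∃ l ∈ A, l ≠ 1 := by
          have h1 : A ≠ ⊥ := by
            rintro rfl
            exact hbaseNT.ncA inferInstance
          obtain ⟨⟨l, hl'⟩, hl1⟩ := (Subgroup.ne_bot_iff_exists_ne_one).mp h1
          exact ⟨l, hl', fun e => hl1 (Subtype.ext e)⟩
        exact ⟨l, hl', hl1, fun c hc => hl c hc.1 (fun e => hc.2 (e ▸ one_mem _))⟩
    obtain ⟨l, hl, hl1, hc⟩ := hex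
    have hGN : G ≤ N := by
      rw [← d.mc.gen_off hl hl1]
      apply iSup₂_le
      rintro c ⟨hcA, hcl⟩
      exact hline c hcA (fun e => hcl (e ▸ one_mem _)) (hc c ⟨hcA, hcl⟩)
    exact d.neN (le_antisymm d.leNG hGN)
  obtain ⟨l, hl, hl1, hlZ, c, hc, hcZ⟩ := hpair
  have hcA : c ∈ A := hc.1
  have hc1 : c ≠ 1 := fun e => hc.2 (e ▸ one_mem _)
  have hall : ∀ a ∈ Sharp A, Fx E₀ a ≤ centralizer (Z : Set Γ) := by
    rintro a ⟨ha, ha1⟩
    by_cases hal : a ∈ zpowers l
    · by_cases hac : a ∈ zpowers c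
      · exfalso
        -- `a` would lie on two lines
        have hcard : ∀ {x : Γ}, x ∈ A → x ≠ 1 → Nat.card (zpowers x) = q := fun hx hx1 => by
          rw [Nat.card_zpowers, hbaseNT.orderOf_eq hx hx1]
        have h1 : zpowers a = zpowers c := Subgroup.eq_of_le_of_card_ge
          (zpowers_le.mpr hac) (by rw [hcard ha ha1, hcard hcA hc1])
        have h2 : c ∈ zpowers l := by
          have h3 : c ∈ zpowers a := by rw [h1]; exact mem_zpowers c
          exact (zpowers_le.mpr hal) h3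
        exact hc.2 h2
      · exact d.f1 hZP hZi hZE hcA hc1 hcZ ⟨ha, hac⟩
    · exact d.f1 hZP hZi hZE hl hl1 hlZ ⟨ha, hal⟩
  have hE := hbaseNT.gen d.leEG d.invE
  rw [← hE]
  exact iSup₂_le hall

end PData

end Cfsg.Agent.Lib.FpfPP
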