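/- Steps 4-6 of the main argument. -/
import Cfsg.Agent.Lib.FpfPP.Main3

set_option autoImplicit false

namespace Cfsg.Agent.Lib.FpfPP

open Subgroup Cfsg.Agent.Lib.Coprime.Action
open scoped commutatorElement

universe u

variable {Γ : Type u} [Group Γ] [Finite Γ] {G A : Subgroup Γ} {q p : ℕ} {P N E₀ : Subgroup Γ}

omit [Finite Γ] in
/-- An element normalizing each member of a family normalizes its supremum. -/
theorem norm_iSup {ι : Sort*} {L : ι → Subgroup Γ} {g : Γ} (h : ∀ i, g ∈ normalizer (L i : Set Γ)) :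
    g ∈ normalizer ((⨆ i, L i : Subgroup Γ) : Set Γ) := by
  have key : ∀ t : Γ, (∀ i, t ∈ normalizer (L i : Set Γ)) → ∀ x ∈ (⨆ i, L i : Subgroup Γ),
      t * x * t⁻¹ ∈ (⨆ i, L i : Subgroup Γ) := by
    intro t ht x hx
    have hle : (⨆ i, L i : Subgroup Γ) ≤ (⨆ i, L i : Subgroup Γ).comap (MulAut.conj t).toMonoidHom := by
      refine iSup_le fun i y hy => ?_
      simp only [Subgroup.mem_comap, MulEquiv.coe_toMonoidHom, MulAut.conj_apply]
      exact Subgroup.mem_iSup_of_mem i ((mem_normalizer_iff.mp (ht i) y).mp hy)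
    exact hle hx
  rw [mem_normalizer_iff]
  intro x
  refine ⟨key g h x, fun hx => ?_⟩
  have := key g⁻¹ (fun i => inv_mem (h i)) _ hx
  have e : g⁻¹ * (g * x * g⁻¹) * g⁻¹⁻¹ = x := by group
  rwa [e] at this

namespace PData

variable (d : PData G A q p P N E₀)
include d

/-- Steps 4-6: the contradiction. -/
theorem final : False := by
  haveI := Fact.mk d.hp
  have hbaseNT := d.baseNT
  have hbase := d.base
  have hq := hbaseNT.hq
  have hqG : ¬ q ∣ Nat.card G := hbaseNT.cop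
  have hpP := d.isP
  have hGi := hbaseNT.inv
  set Z : Subgroup Γ := P ⊓ centralizer (P : Set Γ) with hZ
  have hZP : Z ≤ P := inf_le_left
  have hZi : Inv A Z := d.invP.inf d.invP.centralizer
  have hZG : Z ≤ G := hZP.trans d.leG
  have hZP' : ∀ z ∈ Z, ∀ u ∈ P, z * u = u * z :=
    fun z hz u hu => (mem_centralizer_iff.mp hz.2 u hu).symm
  have hEZ := d.center_central
  have hZN : ∀ z ∈ Z, ∀ n ∈ N, z * n = n * z := by
    intro z hz n hn
    have hNC : N ≤ centralizer (Z : Set Γ) := by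
      rw [← d.supE]
      refine _root_.sup_le ?_ hEZ
      intro u hu
      rw [mem_centralizer_iff]
      intro z hz
      exact hZP' z hz u hu
    exact mem_centralizer_iff.mp (hNC hn) z hz
  have hweak : ∀ z ∈ Z, ∀ g ∈ G, g * z * g⁻¹ ∈ P → g * z * g⁻¹ = z :=
    fun z hz => d.weak z (hZP hz) (hZN z hz)
  have hPna : ¬ ∀ x ∈ P, ∀ y ∈ P, x * y = y * x := by
    intro hc
    have hPZ : P ≤ Z := fun u hu => ⟨hu, mem_centralizer_iff.mpr (fun v hv => hc v hv u hu)⟩
    have h0 : ⁅P, E₀⁆ = ⊥ := by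
      rw [Subgroup.commutator_eq_bot_iff_le_centralizer]
      intro u hu
      rw [mem_centralizer_iff]
      intro e he
      exact (mem_centralizer_iff.mp (hEZ he) u (hPZ hu)).symm
    exact d.neP (d.commE.symm.trans h0)
  have hZ1 : Z ≠ ⊥ := by
    haveI : Nontrivial P := (Subgroup.nontrivial_iff_ne_bot P).mpr d.neP
    haveI := hpP.center_nontrivial
    obtain ⟨⟨z, hz⟩, hz1⟩ := exists_ne (1 : Subgroup.center P)
    intro h0
    have hzZ : (z : Γ) ∈ Z := ⟨z.2, mem_centralizer_iff.mpr fun v hv =>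
      congrArg Subtype.val (Subgroup.mem_center_iff.mp hz ⟨v, hv⟩)⟩
    rw [h0, mem_bot] at hzZ
    exact hz1 (Subtype.ext (Subtype.ext hzZ))
  obtain ⟨j, hj, hj1, hW1⟩ : ∃ j ∈ A, j ≠ 1 ∧ Fx Z j ≠ ⊥ := by
    by_contra hno
    push_neg at hno
    apply hZ1
    refine le_bot_iff.mp ((hbaseNT.gen hZG hZi).ge.trans (iSup₂_le ?_))
    rintro a ⟨ha, ha1⟩
    exact (hno a ha ha1).le
  set W : Subgroup Γ := Fx Z j with hW
  have hWZ : W ≤ Z := inf_le_left
  have hWP : W ≤ P := hWZ.trans hZP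
  have hWi : Inv A W := hbaseNT.inv_fx hZi hj
  have hWp : IsPGroup p W := hpP.to_le hWP
  have hWG : W ≤ G := hWP.trans d.leG
  have hWc : ∀ u ∈ W, ∀ v ∈ W, u * v = v * u := fun u hu v hv => hZP' u (hWZ hu) v (hWP hv)
  have hWPc : ∀ w ∈ W, ∀ u ∈ P, w * u = u * w := fun w hw u hu => hZP' w (hWZ hw) u hu
  set Q : Subgroup Γ := ⨆ c ∈ Off A j, Fx P c with hQ
  have hQeq : Q = ⁅P, zpowers j⁆ := hbase.off_eq_comm d.leG d.invP hj hj1
  have hQP : Q ≤ P := iSup₂_le (fun _ _ => inf_le_left)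
  have hQG : Q ≤ G := hQP.trans d.leG
  have hQi : Inv A Q := fun a ha =>
    norm_iSup (fun c => norm_iSup (fun hc => hbaseNT.inv_fx d.invP hc.1 ha))
  set Pj : Subgroup Γ := Fx P j with hPjdef
  have hfxsplit : ∀ a ∈ Sharp A, Fx P a ≤ Pj ⊔ Q := by
    rintro a ⟨ha, ha1⟩
    by_cases haj : a ∈ zpowers j
    · rw [hbaseNT.fx_congr P hj hj1 haj ha1]
      exact le_sup_left
    · have h1 : Fx P a ≤ Q := le_iSup₂_of_le a ⟨ha, haj⟩ le_rfl
      exact h1.trans le_sup_right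
  have hPsup : P ≤ Pj ⊔ Q := (hbaseNT.gen d.leG d.invP).ge.trans (iSup₂_le hfxsplit)
  have hQ1 : Q ≠ ⊥ := by
    intro h0
    rw [h0, sup_bot_eq] at hPsup
    exact hPna (fun x hx y hy => hbaseNT.comm_fx (L := G) le_rfl hj hj1
      ⟨d.leG hx, (hPsup hx).2⟩ ⟨d.leG hy, (hPsup hy).2⟩)
  -- `C^j`
  set C : Subgroup Γ := G ⊓ centralizer (Q : Set Γ) with hC
  have hCne : C ≠ G := d.mc.ne_centralizer hQG hQi hQ1
  have hCi : Inv A C := hGi.inf hQi.centralizer
  have hCle : C ≤ G := inf_le_left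
  have hCnil := d.mc.nil hCle hCne hCi
  have hWC : W ≤ C := fun w hw =>
    ⟨hWG hw, mem_centralizer_iff.mpr fun u hu => (hWPc w hw u (hQP hu)).symm⟩
  -- the key for each `Y`
  have hkey : ∀ Y : Subgroup Γ, Y ≤ G → Inv A Y → ¬ p ∣ Nat.card Y → W ≤ normalizer (Y : Set Γ) →
      ⁅Y, W⁆ ≤ opc p ⁅C, C⁆ ∧ ⁅Y, W⁆ ≤ centralizer (Q : Set Γ) ∧ ⁅⁅Y, W⁆, W⁆ = ⁅Y, W⁆ := by
    intro Y hYG hYi hYp hWY
    set D : Subgroup Γ := ⁅Y, W⁆ with hDdef
    have hDY : D ≤ Y := commutator_le_of_le_normalizer hWY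
    have hcopWY := cop_of d.hp hWp hYp
    have hDD : ⁅D, W⁆ = D := commutator_commutator_eq hWY hcopWY (Or.inl (solv_of_p d.hp hWp))
    have hDG : D ≤ G := hDY.trans hYG
    have hDi : Inv A D := Inv.comm hYi hWi
    have hDp : ¬ p ∣ Nat.card D := not_dvd_of_le hDY hYp
    have hnil : Group.IsNilpotent D := by
      by_cases hY1 : Y = ⊥
      · have h0 : D = ⊥ := by
          rw [hDdef, hY1]
          exact Subgroup.commutator_bot_left _
        rw [h0]
        infer_instance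
      · have hne := d.sup_ne_G hYG hYi hYp hWP hWY hY1
        have hM := d.mc.nil (_root_.sup_le hYG hWG) hne (Inv.sup hYi hWi)
        exact nilp_of_le hM (Subgroup.commutator_mono le_sup_left le_sup_right)
    have hPm : ∀ m ∈ Off A j, (Fx P m : Subgroup Γ) ≤ centralizer (D : Set Γ) := by
      rintro m ⟨hm, hmj⟩
      have hm1 : m ≠ 1 := fun e => hmj (e ▸ one_mem _)
      have h := kl_comm hq (D := D) (W := W) (x := m) hnil hWc
        (le_normalizer_commutator_of_le hWY Subgroup.le_normalizer) (hDi hm) (hWi hm)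
        (hbaseNT.pow_q hm)
        (by
          have h1 := hbase.fx_inf d.leG hj hj1 hm hmj
          rw [eq_bot_iff, ← h1]
          intro x hx
          exact ⟨⟨hZP hx.1.1, hx.1.2⟩, ⟨hZP hx.1.1, hx.2⟩⟩)
        (Nat.Coprime.coprime_dvd_right (Subgroup.card_dvd_of_le hDY) hcopWY)
        (not_dvd_of_le hDG hqG) (not_dvd_of_le hWG hqG) hDD
        (S := (Fx P m : Subgroup Γ))
        (fun w hw => mem_centralizer_of_comm (fun s hs => (hWPc w hw s hs.1).symm))
        (fun c hc => mem_centralizer_of_comm (fun s hs =>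
          hbaseNT.comm_fx (L := G) le_rfl hm hm1 ⟨d.leG hs.1, hs.2⟩ ⟨hDG hc.1, hc.2⟩))
      intro u hu
      exact mem_centralizer_of_comm (fun y hy => (mem_centralizer_iff.mp (h hy) u hu).symm)
    have hDQ : D ≤ centralizer (Q : Set Γ) := by
      intro y hy
      have hQC : Q ≤ centralizer (D : Set Γ) := iSup₂_le hPm
      exact mem_centralizer_of_comm (fun s hs => (mem_centralizer_iff.mp (hQC hs) y hy).symm)
    have hDC : D ≤ C := fun x hx => ⟨hDG hx, hDQ hx⟩
    have hDM : D ≤ ⁅C, C⁆ := by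
      calc D = ⁅D, W⁆ := hDD.symm
        _ ≤ ⁅C, C⁆ := Subgroup.commutator_mono hDC hWC
    exact ⟨le_opc hDM hDp, hDQ, hDD⟩
  -- `K_W`
  set K : Subgroup Γ := ⨆ (Y : Subgroup Γ)
    (_ : Y ≤ G ∧ Inv A Y ∧ ¬ p ∣ Nat.card Y ∧ W ≤ normalizer (Y : Set Γ)), ⁅Y, W⁆ with hK
  have hle_K : ∀ Y : Subgroup Γ, Y ≤ G → Inv A Y → ¬ p ∣ Nat.card Y →
      W ≤ normalizer (Y : Set Γ) → ⁅Y, W⁆ ≤ K :=
    fun Y h1 h2 h3 h4 => le_iSup₂_of_le Y ⟨h1, h2, h3, h4⟩ le_rfl
  have hKopc : K ≤ opc p ⁅C, C⁆ :=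
    iSup₂_le (fun Y hY => (hkey Y hY.1 hY.2.1 hY.2.2.1 hY.2.2.2).1)
  have hKp : ¬ p ∣ Nat.card K := not_dvd_of_le hKopc (not_dvd_opc hCnil)
  have hKQ : K ≤ centralizer (Q : Set Γ) :=
    iSup₂_le (fun Y hY => (hkey Y hY.1 hY.2.1 hY.2.2.1 hY.2.2.2).2.1)
  have hKG : K ≤ G :=
    iSup₂_le (fun Y hY => (commutator_le_of_le_normalizer hY.2.2.2).trans hY.1)
  have hKi : Inv A K := fun a ha =>
    norm_iSup (fun Y => norm_iSup (fun hY => (Inv.comm hY.2.1 hWi) ha))
  have hKcomm : K ≤ ⁅K, W⁆ := iSup₂_le (fun Y hY => by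
    have h := hkey Y hY.1 hY.2.1 hY.2.2.1 hY.2.2.2
    calc ⁅Y, W⁆ = ⁅⁅Y, W⁆, W⁆ := h.2.2.symm
      _ ≤ ⁅K, W⁆ := Subgroup.commutator_mono (hle_K Y hY.1 hY.2.1 hY.2.2.1 hY.2.2.2) le_rfl)
  have hPjP : Pj ≤ P := inf_le_left
  have hWPj : W ≤ Pj := fun w hw => ⟨hWP hw, hw.2⟩
  have hPjNQ : Pj ≤ normalizer (Q : Set Γ) := by
    intro e he
    rw [hQeq]
    have hej : e ∈ normalizer ((zpowers j : Subgroup Γ) : Set Γ) := by
      refine mem_norm_of_cent ?_
      intro s hs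
      obtain ⟨n, rfl⟩ := mem_zpowers_iff.mp hs
      have hc : Commute e j := (mem_centralizer_iff.mp he.2 j rfl).symm
      exact (hc.zpow_right n).eq
    have hN := le_normalizer_commutator_of_le (T := normalizer (P : Set Γ) ⊓
        normalizer ((zpowers j : Subgroup Γ) : Set Γ)) inf_le_left inf_le_right
    exact hN (Subgroup.mem_inf.mpr ⟨Subgroup.le_normalizer he.1, hej⟩)
  have hKNQ : K ≤ normalizer (Q : Set Γ) := fun k hk =>
    mem_norm_of_cent (fun s hs => (mem_centralizer_iff.mp (hKQ hk) s hs).symm)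
  set J : Subgroup Γ := K ⊔ Pj with hJ
  have hJG : J ≤ G := _root_.sup_le hKG (hPjP.trans d.leG)
  have hJNQ : J ≤ normalizer (Q : Set Γ) := _root_.sup_le hKNQ hPjNQ
  have hJi : Inv A J := Inv.sup hKi (hbaseNT.inv_fx d.invP hj)
  have hJne : J ≠ G := by
    intro he
    rw [he] at hJNQ
    rcases d.mc.simple Q hQG hJNQ hQi with h | h
    · exact hQ1 h
    · exact d.neG (le_antisymm d.leG (by rw [← h]; exact hQP))
  have hJnil := d.mc.nil hJG hJne hJi
  set Y₁ : Subgroup Γ := opc p ⁅J, J⁆ with hY₁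
  have hJN : J ≤ normalizer ((⁅J, J⁆ : Subgroup Γ) : Set Γ) :=
    le_normalizer_commutator_of_le Subgroup.le_normalizer Subgroup.le_normalizer
  have hJY₁ : J ≤ normalizer (Y₁ : Set Γ) := hJN.trans normalizer_le_opc
  have hY₁G : Y₁ ≤ G :=
    opc_le.trans ((commutator_le_of_le_normalizer Subgroup.le_normalizer).trans hJG)
  have hY₁i : Inv A Y₁ := (Inv.comm hJi hJi).trans normalizer_le_opc
  have hY₁p : ¬ p ∣ Nat.card Y₁ := not_dvd_opc hJnil
  have hWJ : W ≤ J := hWPj.trans le_sup_right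
  have hWY₁ : W ≤ normalizer (Y₁ : Set Γ) := hWJ.trans hJY₁
  have hKJ : K ≤ J := le_sup_left
  have hKY₁ : K ≤ Y₁ := le_opc (hKcomm.trans (Subgroup.commutator_mono hKJ hWJ)) hKp
  have hKeq : K = ⁅Y₁, W⁆ := le_antisymm
    (hKcomm.trans (Subgroup.commutator_mono hKY₁ le_rfl)) (hle_K Y₁ hY₁G hY₁i hY₁p hWY₁)
  have hPjW : Pj ≤ normalizer (W : Set Γ) := fun e he =>
    mem_norm_of_cent (fun w hw => (hWPc w hw e he.1).symm)
  have hPjK : Pj ≤ normalizer (K : Set Γ) := by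
    have h : Pj ≤ normalizer ((⁅Y₁, W⁆ : Subgroup Γ) : Set Γ) :=
      le_normalizer_commutator_of_le ((le_sup_right : Pj ≤ J).trans hJY₁) hPjW
    rwa [← hKeq] at h
  have hQK : Q ≤ normalizer (K : Set Γ) := fun s hs =>
    mem_norm_of_cent (fun k hk => mem_centralizer_iff.mp (hKQ hk) s hs)
  have hPK : P ≤ normalizer (K : Set Γ) := hPsup.trans (_root_.sup_le hPjK hQK)
  have hcl := d.claim hKG hKi hKp hPK
  have hK1 : K = ⊥ := by
    rw [eq_bot_iff]
    calc K ≤ ⁅K, W⁆ := hKcomm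
      _ ≤ ⁅K, P⁆ := Subgroup.commutator_mono le_rfl hWP
      _ = ⊥ := hcl
  have hstar : ∀ Y : Subgroup Γ, Y ≤ G → Inv A Y → ¬ p ∣ Nat.card Y →
      W ≤ normalizer (Y : Set Γ) → ⁅Y, W⁆ = ⊥ := fun Y h1 h2 h3 h4 =>
    le_bot_iff.mp ((hle_K Y h1 h2 h3 h4).trans hK1.le)
  -- the pieces of `G` centralize `W`
  have hHi : ∀ i ∈ A, i ≠ 1 → Fx P i ≠ ⊥ → Fx G i ≤ centralizer (W : Set Γ) := by
    intro i hi hi1 hPi
    by_cases hij : i ∈ zpowers j
    · rw [hbaseNT.fx_congr G hj hj1 hij hi1]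
      intro h hh
      exact mem_centralizer_of_comm (fun w hw =>
        hbaseNT.comm_fx (L := G) le_rfl hj hj1 ⟨hWG hw, hw.2⟩ hh)
    · set R : Subgroup Γ := Fx P i with hR
      have hRG : R ≤ G := inf_le_left.trans d.leG
      have hRi : Inv A R := hbaseNT.inv_fx d.invP hi
      have hCne := d.mc.ne_centralizer hRG hRi hPi
      set Hi : Subgroup Γ := Fx G i with hHidef
      set L : Subgroup Γ := W ⊔ Hi with hL
      have hLC : L ≤ G ⊓ centralizer (R : Set Γ) := by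
        refine _root_.sup_le ?_ ?_
        · exact fun w hw =>
            ⟨hWG hw, mem_centralizer_of_comm (fun s hs => (hWPc w hw s hs.1).symm)⟩
        · exact fun h hh => ⟨hh.1, mem_centralizer_of_comm (fun s hs =>
            hbaseNT.comm_fx (L := G) le_rfl hi hi1 ⟨d.leG hs.1, hs.2⟩ hh)⟩
      have hLG : L ≤ G := hLC.trans inf_le_left
      have hLne : L ≠ G := fun he =>
        hCne (le_antisymm inf_le_left (by rw [← he]; exact hLC.trans (by rw [he])))
      have hLi : Inv A L := Inv.sup hWi (hbaseNT.inv_fx hGi hi)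
      have hM := d.mc.nil hLG hLne hLi
      set M : Subgroup Γ := ⁅L, L⁆ with hMdef
      have hMi : Inv A M := Inv.comm hLi hLi
      have hLM : L ≤ normalizer (M : Set Γ) :=
        le_normalizer_commutator_of_le Subgroup.le_normalizer Subgroup.le_normalizer
      have hMG : M ≤ G := (commutator_le_of_le_normalizer Subgroup.le_normalizer).trans hLG
      set Y : Subgroup Γ := opc p M with hY
      set U : Subgroup Γ := opp p M with hU
      have hYG : Y ≤ G := opc_le.trans hMG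
      have hYi : Inv A Y := hMi.trans normalizer_le_opc
      have hYp : ¬ p ∣ Nat.card Y := not_dvd_opc hM
      have hWY : W ≤ normalizer (Y : Set Γ) :=
        ((le_sup_left : W ≤ L).trans hLM).trans normalizer_le_opc
      have hcl := hstar Y hYG hYi hYp hWY
      have hUp : IsPGroup p U := isPGroup_opp hM
      have hUi : Inv A U := hMi.trans normalizer_le_opp
      have hUP : U ≤ P := d.le_of_inv (opp_le.trans hMG) hUp hUi
      intro h hh
      refine mem_centralizer_of_comm (fun w hw => ?_)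
      have h1 : ⁅h, w⁆ ∈ M :=
        Subgroup.commutator_mem_commutator (mem_sup_right hh) (mem_sup_left hw)
      obtain ⟨v, hv, y, hy, hvy⟩ := exists_mul_opp_opc (p := p) hM h1
      have hyw : y * w = w * y := by
        have := Subgroup.commutator_mem_commutator hy hw
        rw [hcl, mem_bot] at this
        exact commutatorElement_eq_one_iff_mul_comm.mp this
      have hvw : v * w ∈ P := P.mul_mem (hUP hv) (hWP hw)
      have he : h * w * h⁻¹ = (v * w) * y := by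
        have h2 : h * w * h⁻¹ = ⁅h, w⁆ * w := by
          rw [commutatorElement_def]; group
        rw [h2, hvy, mul_assoc, hyw, ← mul_assoc]
      have hcomm : (v * w) * y = y * (v * w) := by
        rw [mul_assoc, ← hyw, ← mul_assoc, ← mul_assoc, opp_comm_opc hM hv hy]
      have hy1 := d.conj_split d.isP hYp hvw hy hcomm (hWP hw) he
      have he2 : h * w * h⁻¹ = v * w := by rw [he, hy1, mul_one]
      have hw' := hweak w (hWZ hw) h hh.1 (he2 ▸ hvw)
      have : h * w = w * h := by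
        calc h * w = h * w * h⁻¹ * h := by group
          _ = w * h := by rw [hw']
      exact this.symm
  have hGC : G ≤ centralizer (W : Set Γ) := by
    by_cases hl : ∃ l ∈ A, l ≠ 1 ∧ Fx P l = ⊥
    · obtain ⟨l, hl, hl1, hlP⟩ := hl
      refine (d.mc.gen_off hl hl1).ge.trans (iSup₂_le ?_)
      intro c hc
      exact hHi c hc.1 (fun e => hc.2 (e ▸ one_mem _)) (d.atmost hl hl1 hlP hc)
    · push_neg at hl
      refine (hbaseNT.gen le_rfl hGi).ge.trans (iSup₂_le ?_)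
      rintro a ⟨ha, ha1⟩
      exact hHi a ha ha1 (hl a ha ha1)
  have hne := d.mc.ne_centralizer hWG hWi hW1
  exact hne (le_antisymm inf_le_left (_root_.le_inf le_rfl hGC))

end PData

end Cfsg.Agent.Lib.FpfPP
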