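/- The minimal counterexample and the final theorem in internal form. -/
import Cfsg.Agent.Lib.FpfPP.Main4
import Cfsg.Agent.Lib.FpfPP.KPack
import Cfsg.Agent.Lib.Char.Burnside
import Cfsg.Agent.Lib.EPPO7.Reduce
import Cfsg.Agent.Lib.Coprime.Bridge
import Cfsg.Agent.Lib.Coprime.BridgeComm

set_option autoImplicit false

namespace Cfsg.Agent.Lib.FpfPP

open Subgroup

universe u

/-- No minimal counterexample. -/
theorem MC.false {Γ : Type u} [Group Γ] [Finite Γ] {G A : Subgroup Γ} {q : ℕ} (h : MC G A q) : False := by
  classical
  have hp : ∃ p : ℕ, p.Prime ∧ 5 ≤ p ∧ p ∣ Nat.card G := by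
    by_contra hno
    push Not at hno
    apply h.nons
    apply Cfsg.Agent.Lib.EPPO7.solvable_of_two_primes
    have hsub : (Nat.card G).primeFactors ⊆ {2, 3} := by
      intro p hp
      have hpp := Nat.prime_of_mem_primeFactors hp
      have hd := Nat.dvd_of_mem_primeFactors hp
      have hlt : p < 5 := by
        by_contra hge
        exact hno p hpp (by omega) hd
      have h2 := hpp.two_le
      have h4 : p ≠ 4 := by
        rintro rfl
        revert hpp
        decide
      simp only [Finset.mem_insert, Finset.mem_singleton]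
      omega
    exact (Finset.card_le_card hsub).trans (by decide)
  obtain ⟨p, hp, hp5, hpG⟩ := hp
  obtain ⟨P, N, E₀, d⟩ := kinf_package h hp hp5 hpG
  exact d.final

/-- The theorem in internal form, by induction on `|G|`. -/
theorem solvable_internal {q : ℕ} (n : ℕ) : ∀ (Γ : Type u) [Group Γ] [Finite Γ] (G A : Subgroup Γ),
    BaseNT G A q → Nat.card G ≤ n → Group.IsSolvable G := by
  induction n with
  | zero =>
    intro Γ _ _ G A _ hc
    have : 0 < Nat.card G := Nat.card_pos
    omega
  | succ n ih =>
    intro Γ _ _ G A hb hc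
    by_contra hns
    have hlt : ∀ L : Subgroup Γ, L ≤ G → L ≠ G → Nat.card L ≤ n := by
      intro L hLG hne
      have h1 : Nat.card L ≤ Nat.card G := Nat.card_le_card_of_injective _ (Subgroup.inclusion_injective hLG)
      have h2 : Nat.card L ≠ Nat.card G := by
        intro heq
        exact hne (Subgroup.eq_of_le_of_card_ge hLG heq.symm.le)
      omega
    have hsolv : ∀ L : Subgroup Γ, L ≤ G → L ≠ G → Inv A L → Group.IsSolvable L := by
      intro L hLG hne hL
      exact ih Γ L A (hb.mono hLG hL) (hlt L hLG hne)
    have hsimple : ∀ N : Subgroup Γ, N ≤ G → G ≤ normalizer (N : Set Γ) → Inv A N → N = ⊥ ∨ N = G := by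
      intro N hNG hnorm hN
      by_contra hcon
      push Not at hcon
      obtain ⟨hbot, hne⟩ := hcon
      apply hns
      have hNs := hsolv N hNG hne hN
      have hb' := hb.restrict
      have hNS : N ≤ G ⊔ A := hNG.trans le_sup_left
      haveI hN'n : (N.subgroupOf (G ⊔ A)).Normal :=
        (Subgroup.normal_subgroupOf_iff_le_normalizer hNS).mpr (sup_le hnorm hN)
      have hN'G : N.subgroupOf (G ⊔ A) ≤ G.subgroupOf (G ⊔ A) := Subgroup.subgroupOf_mono _ hNG |> fun h => h
      have hq := hb'.quot (N.subgroupOf (G ⊔ A)) hN'G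
      let g : G →* ↥((G.subgroupOf (G ⊔ A)).map (QuotientGroup.mk' (N.subgroupOf (G ⊔ A)))) :=
        { toFun := fun x => ⟨QuotientGroup.mk' (N.subgroupOf (G ⊔ A)) ⟨x.1, (le_sup_left : G ≤ G ⊔ A) x.2⟩,
            ⟨⟨x.1, (le_sup_left : G ≤ G ⊔ A) x.2⟩, x.2, rfl⟩⟩
          map_one' := rfl
          map_mul' := fun _ _ => rfl }
      have hgs : Function.Surjective g := by
        rintro ⟨_, ⟨⟨x, hx'⟩, hx, rfl⟩⟩
        exact ⟨⟨x, hx⟩, rfl⟩
      have hker : ∀ x : G, g x = 1 ↔ x.1 ∈ N := by
        intro x
        constructor
        · intro h1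
          have h2 : QuotientGroup.mk' (N.subgroupOf (G ⊔ A)) ⟨x.1, (le_sup_left : G ≤ G ⊔ A) x.2⟩ = 1 :=
            congrArg Subtype.val h1
          rw [← MonoidHom.mem_ker, QuotientGroup.ker_mk'] at h2
          exact h2
        · intro h1
          apply Subtype.ext
          change QuotientGroup.mk' (N.subgroupOf (G ⊔ A)) ⟨x.1, (le_sup_left : G ≤ G ⊔ A) x.2⟩ = 1
          rw [← MonoidHom.mem_ker, QuotientGroup.ker_mk']
          exact h1
      have hcard : Nat.card ((G.subgroupOf (G ⊔ A)).map (QuotientGroup.mk' (N.subgroupOf (G ⊔ A)))) ≤ n := by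
        have hle := Nat.card_le_card_of_surjective g hgs
        have hnot : Nat.card ((G.subgroupOf (G ⊔ A)).map (QuotientGroup.mk' (N.subgroupOf (G ⊔ A)))) ≠ Nat.card G := by
          intro heq
          have hinj := (Function.Surjective.bijective_of_nat_card_le hgs heq.symm.le).1
          apply hbot
          rw [eq_bot_iff]
          intro y hy
          have h3 : g ⟨y, hNG hy⟩ = 1 := (hker ⟨y, hNG hy⟩).mpr hy
          have h4 : (⟨y, hNG hy⟩ : G) = 1 := hinj (by rw [h3, map_one])
          rw [mem_bot]
          exact congrArg Subtype.val h4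
        omega
      have hsq := ih _ _ _ hq hcard
      refine Group.isSolvable_of_ker_le_range (Subgroup.inclusion hNG) g ?_
      rintro x hx
      exact ⟨⟨x.1, (hker x).mp hx⟩, rfl⟩
    have htriv : G ⊓ centralizer (A : Set Γ) = ⊥ := by
      have hZ := hsimple (G ⊓ centralizer (G : Set Γ)) inf_le_left (by
          intro g hg
          rw [mem_normalizer_iff]
          intro x
          have key : ∀ k ∈ G, ∀ y ∈ G ⊓ centralizer (G : Set Γ), k * y * k⁻¹ ∈ G ⊓ centralizer (G : Set Γ) := by
            intro k hk y hy
            have hyc := (mem_centralizer_iff.mp hy.2) k hk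
            have : k * y * k⁻¹ = y := by rw [hyc]; group
            rw [this]; exact hy
          refine ⟨key g hg x, fun hx => ?_⟩
          have := key g⁻¹ (G.inv_mem hg) _ hx
          have e : g⁻¹ * (g * x * g⁻¹) * g⁻¹⁻¹ = x := by group
          rwa [e] at this)
        (hb.inv.inf (Inv.centralizer hb.inv))
      rcases hZ with hZ | hZ
      · rw [eq_bot_iff]
        intro d hd
        have hcen : G ≤ centralizer ({d} : Set Γ) := by
          rw [← hb.gen (le_refl G) hb.inv]
          refine iSup₂_le ?_
          rintro a ⟨ha, ha1⟩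
          rintro x hx
          change _ ∈ centralizer _
          have hda : d ∈ Fx G a := by
            refine ⟨hd.1, ?_⟩
            change _ ∈ centralizer _
            rw [mem_centralizer_singleton_iff]
            exact ((mem_centralizer_iff.mp hd.2) a ha).symm
          rw [mem_centralizer_singleton_iff]
          exact hb.abel a ha ha1 x hx d hda
        have : d ∈ G ⊓ centralizer (G : Set Γ) := by
          refine ⟨hd.1, ?_⟩
          change _ ∈ centralizer _
          rw [mem_centralizer_iff]
          intro g hg
          have := hcen hg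
          rw [mem_centralizer_singleton_iff] at this
          exact this
        rwa [hZ] at this
      · exfalso
        apply hns
        have hle : G ≤ centralizer (G : Set Γ) := by
          rw [← hZ]
          exact inf_le_right.trans (by rw [hZ])
        exact Group.isSolvable_of_comm (fun x y => Subtype.ext ((mem_centralizer_iff.mp (hle y.2)) x.1 x.2))
    exact MC.false (Γ := Γ) (G := G) (A := A) (q := q)
      { toBase := ⟨hb, htriv⟩, simple := hsimple, solv := hsolv, nons := hns }

end Cfsg.Agent.Lib.FpfPP
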